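import Groth.Agent.L25.HomLocus.LocalMap

/-!
# A family of homomorphisms between split groups is locally given by a homomorphism of characters
-/

set_option autoImplicit false
universe u

open CategoryTheory CategoryTheory.Limits MonoidalCategory CartesianMonoidalCategory
open AlgebraicGeometry

set_option backward.isDefEq.respectTransparency.types false

noncomputable section

namespace Groth.L25.HomScheme

open Groth.L25.Cocycle Groth.L25.HomLocus

variable {S : Scheme.{u}} {R : Type u} [CommRing R] {j : Spec (CommRingCat.of R) ⟶ S} {H H' : Over S}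
  [GrpObj H] [GrpObj H'] {M N : Type} [CommGroup M] [CommGroup N]

/-- the local form of a homomorphism given on points -/
theorem exists_local_pointHom (e : Chart j H M) (e' : Chart j H' N) (F : PointHom j H H' (⊥ : Ideal R)) [Monoid.FG N]
    (p : PrimeSpectrum R) :
    ∃ f : R, f ∉ p.asIdeal ∧ ∃ φ : N →* M, ∀ (C : Type u) [CommRing C] [Algebra R C], IsUnit (algebraMap R C f) →
      ∀ hC : ∀ r ∈ (⊥ : Ideal R), algebraMap R (MonoidAlgebra C M) r = 0,
      F.f (MonoidAlgebra C M) hC (e.pt (MonoidAlgebra.of C M)) = e'.pt ((MonoidAlgebra.of C M).comp φ) := by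
  classical
  let ψ := F.char e e'
  let g (C : Type u) [CommRing C] [Algebra R C] : (R ⧸ (⊥ : Ideal R)) →+* C :=
    Ideal.Quotient.lift ⊥ (algebraMap R C) fun r hr => by rw [Ideal.mem_bot.1 hr, map_zero]
  let ψC (C : Type u) [CommRing C] [Algebra R C] : N →* MonoidAlgebra C M :=
    ((MonoidAlgebra.mapRingHom M (g C)) : MonoidAlgebra (R ⧸ (⊥ : Ideal R)) M →* MonoidAlgebra C M).comp ψ
  have key : ∀ (C : Type u) [CommRing C] [Algebra R C]
      (hC : ∀ r ∈ (⊥ : Ideal R), algebraMap R (MonoidAlgebra C M) r = 0),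
      F.f (MonoidAlgebra C M) hC (e.pt (MonoidAlgebra.of C M)) = e'.pt (ψC C) := by
    intro C _ _ hC
    refine (F.f_eq e e' hC (MonoidAlgebra.of C M)).trans (congrArg e'.pt (MonoidHom.ext fun n => ?_))
    show PointHom.evq hC (MonoidAlgebra.of C M) (ψ n) = MonoidAlgebra.mapRingHom M (g C) (ψ n)
    induction ψ n using MonoidAlgebra.induction_linear with
    | zero => simp
    | add a b ha hb => simp [ha, hb]
    | single a c =>
      obtain ⟨c, rfl⟩ := Ideal.Quotient.mk_surjective c
      simp [PointHom.evq, MonoidAlgebra.liftNCAlgHom, MonoidAlgebra.liftNCRingHom_single, g,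
        Algebra.ofId_apply, IsScalarTower.algebraMap_apply R C (MonoidAlgebra C M),
        MonoidAlgebra.coe_algebraMap, MonoidAlgebra.single_mul_single, MonoidAlgebra.mapRingHom_single]
  let L : Type u := p.asIdeal.ResidueField
  choose m hm using fun n => exists_coeff_ne_zero (F.isGL_char e e' n) (g L)
  have hone : ∀ n, ψC L n = MonoidAlgebra.single (m n) 1 := fun n =>
    map_eq_single (F.isGL_char e e' n) (g L) (isUnit_iff_ne_zero.2 (hm n))
  have hmul : ∀ a b, m (a * b) = m a * m b := fun a b => by
    have h := map_mul (ψC L) a b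
    rw [hone, hone, hone, MonoidAlgebra.single_mul_single, _root_.one_mul] at h
    exact MonoidAlgebra.of_injective (R := L) h
  let φ : N →* M := MonoidHom.mk' m hmul
  obtain ⟨s, hs⟩ := (Monoid.fg_def.1 ‹Monoid.FG N›)
  choose r hr using fun n => Ideal.Quotient.mk_surjective ((ψ n).coeff (m n))
  have hrg : ∀ (C : Type u) [CommRing C] [Algebra R C] (n : N), g C ((ψ n).coeff (m n)) = algebraMap R C (r n) :=
    fun C _ _ n => by rw [← hr]; exact Ideal.Quotient.lift_mk _ _ _
  refine ⟨∏ n ∈ s, r n, ?_, φ, fun C _ _ hf hC => ?_⟩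
  · rw [← Ideal.algebraMap_residueField_eq_zero, map_prod, Finset.prod_eq_zero_iff]
    rintro ⟨n, -, hn⟩
    exact hm n ((hrg L n).trans hn)
  · refine (key C hC).trans (congrArg e'.pt ?_)
    refine MonoidHom.eq_of_eqOn_denseM hs fun n hn => ?_
    show MonoidAlgebra.mapRingHom M (g C) (ψ n) = MonoidAlgebra.of C M (φ n)
    rw [map_prod] at hf
    exact map_eq_single (F.isGL_char e e' n) (g C)
      (by show IsUnit (g C ((ψ n).coeff (m n))); rw [hrg]; exact isUnit_of_dvd_unit (Finset.dvd_prod_of_mem (fun k => algebraMap R C (r k)) hn) hf)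

end Groth.L25.HomScheme
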