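import Groth.Agent.L25.HomScheme.Hom
import Groth.Agent.L25.HomScheme.LocalFamily
import Groth.Agent.L25.HomLocus.ChartIso
import Groth.Agent.L25.Cocycle.LiftHom
import Groth.Agent.L23.CoprodFinite
import Mathlib.AlgebraicGeometry.Morphisms.Etale

/-!
# Families of homomorphisms between split groups of multiplicative type
-/

set_option autoImplicit false
universe u

open CategoryTheory CategoryTheory.Limits MonoidalCategory CartesianMonoidalCategory
open AlgebraicGeometry
open scoped MonObj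

set_option backward.isDefEq.respectTransparency.types false

noncomputable section

namespace Groth.L25.HomScheme

open Groth.L25.Cocycle Groth.L25.HomLocus

variable {S : Scheme.{u}} {R : Type u} [CommRing R] {j : Spec (CommRingCat.of R) ⟶ S} {H G : Over S}
  [GrpObj H] [GrpObj G] {M N : Type} [CommGroup M] [CommGroup N] (e : Chart j H M) (e' : Chart j G N)
  {C D : Type u} [CommRing C] [Algebra R C] [CommRing D] [Algebra R D]

/-- The universal point over `Spec C`. -/
def uPt (C : Type u) [CommRing C] [Algebra R C] : X j (MonoidAlgebra C M) ⟶ H ⊗ X j C :=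
  lift (e.pt (MonoidAlgebra.of C M)) (Cocycle.mor j (IsScalarTower.toAlgHom R C (MonoidAlgebra C M)))

theorem uPt_left (C : Type u) [CommRing C] [Algebra R C] : (uPt e C).left = κ e C := by
  apply pullback.hom_ext
  · refine (congrArg (fun m => m.left) (lift_fst (e.pt (MonoidAlgebra.of C M))
      (Cocycle.mor j (IsScalarTower.toAlgHom R C (MonoidAlgebra C M))))).trans ?_
    exact (pullback.lift_fst _ _ _).symm
  · refine (congrArg (fun m => m.left) (lift_snd (e.pt (MonoidAlgebra.of C M))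
      (Cocycle.mor j (IsScalarTower.toAlgHom R C (MonoidAlgebra C M))))).trans ?_
    exact (pullback.lift_snd _ _ _).symm

theorem isIso_uPt [IsAffineHom H.hom] (C : Type u) [CommRing C] [Algebra R C] : IsIso (uPt e C) := by
  have : IsIso (uPt e C).left := by rw [uPt_left]; exact isIso_κ e C
  have : IsIso ((Over.forget S).map (uPt e C)) := this
  exact isIso_of_reflects_iso _ (Over.forget S)

/-- A point as a specialisation of the universal one. -/
theorem lift_pt (h : C →ₐ[R] D) (χ : M →* D) :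
    lift (e.pt χ) (Cocycle.mor j h) = Cocycle.mor j (MonoidAlgebra.liftNCAlgHom h χ fun _ _ => Commute.all _ _) ≫ uPt e C := by
  let L : MonoidAlgebra C M →ₐ[R] D := MonoidAlgebra.liftNCAlgHom h χ fun _ _ => Commute.all _ _
  have h1 : (L : MonoidAlgebra C M →* D).comp (MonoidAlgebra.of C M) = χ := MonoidHom.ext fun m => by
    simp [L, MonoidAlgebra.liftNCAlgHom, MonoidAlgebra.liftNCRingHom_single]
  have h2 : L.comp (IsScalarTower.toAlgHom R C (MonoidAlgebra C M)) = h := AlgHom.ext fun c => by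
    simp [L, MonoidAlgebra.liftNCAlgHom, MonoidAlgebra.liftNCRingHom_single, MonoidAlgebra.coe_algebraMap]
  show _ = Cocycle.mor j L ≫ uPt e C
  rw [uPt, comp_lift, e.nat, h1, ← mor_comp, h2]

include e in
theorem hom_ext_uPt [IsAffineHom H.hom] {x y : H ⊗ X j C ⟶ G} (h : uPt e C ≫ x = uPt e C ≫ y) : x = y :=
  have := isIso_uPt e C
  (cancel_epi (uPt e C)).1 h

/-- The family attached to a homomorphism of characters. -/
def fam [IsAffineHom H.hom] (φ : N →* M) (C : Type u) [CommRing C] [Algebra R C] : H ⊗ X j C ⟶ G :=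
  have := isIso_uPt e C
  inv (uPt e C) ≫ e'.pt ((MonoidAlgebra.of C M).comp φ)

theorem lift_pt_fam [IsAffineHom H.hom] (φ : N →* M) (h : C →ₐ[R] D) (χ : M →* D) :
    lift (e.pt χ) (Cocycle.mor j h) ≫ fam e e' φ C = e'.pt (χ.comp φ) := by
  have := isIso_uPt e C
  rw [fam, lift_pt, Category.assoc, IsIso.hom_inv_id_assoc, e'.nat, ← MonoidHom.comp_assoc]
  congr 2
  refine MonoidHom.ext fun m => ?_
  simp [MonoidAlgebra.liftNCAlgHom, MonoidAlgebra.liftNCRingHom_single]

/-- The universal point of `H` over `Spec C` evaluated on the family of `φ`. -/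
theorem uPt_fam [IsAffineHom H.hom] (φ : N →* M) (C : Type u) [CommRing C] [Algebra R C] :
    uPt e C ≫ fam e e' φ C = e'.pt ((MonoidAlgebra.of C M).comp φ) := by
  have := isIso_uPt e C
  rw [fam, IsIso.hom_inv_id_assoc]

theorem fam_res [IsAffineHom H.hom] (φ : N →* M) (h : C →ₐ[R] D) :
    (H ◁ Cocycle.mor j h) ≫ fam e e' φ C = fam e e' φ D := by
  refine hom_ext_uPt e ?_
  rw [uPt_fam, ← Category.assoc, uPt, lift_whiskerLeft, ← mor_comp, lift_pt_fam]

theorem fam_injective [IsAffineHom H.hom] [Nontrivial C] {φ φ' : N →* M}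
    (h : fam e e' φ C = fam e e' φ' C) : φ = φ' := by
  have h1 := congrArg (uPt e C ≫ ·) h
  simp only [uPt_fam] at h1
  refine MonoidHom.ext fun n => MonoidAlgebra.of_injective (R := C) ?_
  exact DFunLike.congr_fun ((e'.bij _).1 h1) n

theorem isHomFamily_fam [IsAffineHom H.hom] (φ : N →* M) (C : Type u) [CommRing C] [Algebra R C] :
    AutFam.IsHomFamily H G (fam e e' φ C) := by
  intro Y g₁ g₂ t
  refine Over.OverMorphism.ext (Scheme.Cover.hom_ext Y.left.affineCover _ _ fun i => ?_)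
  let k : Over.mk (Y.left.affineCover.f i ≫ Y.hom) ⟶ Y := Over.homMk (Y.left.affineCover.f i) rfl
  have : IsAffine (Over.mk (Y.left.affineCover.f i ≫ Y.hom)).left :=
    inferInstanceAs (IsAffine (Y.left.affineCover.X i))
  suffices k ≫ lift (g₁ * g₂) t ≫ fam e e' φ C =
      k ≫ ((lift g₁ t ≫ fam e e' φ C) * (lift g₂ t ≫ fam e e' φ C)) from congrArg (fun m => m.left) this
  simp only [MonObj.comp_mul, comp_lift_assoc]
  generalize k ≫ g₁ = a₁, k ≫ g₂ = a₂, k ≫ t = s
  revert a₁ a₂ s this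
  generalize Over.mk (Y.left.affineCover.f i ≫ Y.hom) = T
  intro this a₁ a₂ s
  obtain ⟨ψ, hψ⟩ := Spec.map_surjective (T.left.isoSpec.inv ≫ s.left)
  let E : Type u := Γ(T.left, ⊤)
  let : Algebra R E := (ψ.hom.comp (algebraMap R C)).toAlgebra
  let h : C →ₐ[R] E := { ψ.hom with commutes' := fun _ => rfl }
  let i' : X j E ≅ T := Over.isoMk T.left.isoSpec.symm (by
    show T.left.isoSpec.inv ≫ T.hom = Spec.map (CommRingCat.ofHom (ψ.hom.comp (algebraMap R C))) ≫ j
    rw [CommRingCat.ofHom_comp, CommRingCat.ofHom_hom, Spec.map_comp, Category.assoc, hψ, Category.assoc]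
    exact congrArg (T.left.isoSpec.inv ≫ ·) (Over.w s).symm)
  have hs : i'.hom ≫ s = Cocycle.mor j h := Over.OverMorphism.ext hψ.symm
  rw [← cancel_epi i'.hom]
  simp only [MonObj.comp_mul, comp_lift_assoc, hs]
  obtain ⟨χ₁, hχ₁⟩ := (e.bij E).2 (i'.hom ≫ a₁)
  obtain ⟨χ₂, hχ₂⟩ := (e.bij E).2 (i'.hom ≫ a₂)
  rw [← hχ₁, ← hχ₂, ← e.pt_mul, lift_pt_fam, lift_pt_fam, lift_pt_fam, MonoidHom.mul_comp, e'.pt_mul]

/-- The structure map of a point over `Spec C`. -/
def toC (C : Type u) [CommRing C] [Algebra R C] (D : Type u) [CommRing D] [Algebra C D] :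
    X (Spec.map (CommRingCat.ofHom (algebraMap R C)) ≫ j) D ⟶ X j C :=
  Over.homMk (Spec.map (CommRingCat.ofHom (algebraMap C D))) rfl

theorem mor_toC (C : Type u) [CommRing C] [Algebra R C] {D D' : Type u} [CommRing D] [Algebra C D]
    [CommRing D'] [Algebra C D'] (h : D →ₐ[C] D') :
    Cocycle.mor (Spec.map (CommRingCat.ofHom (algebraMap R C)) ≫ j) h ≫ toC C D = toC (j := j) C D' := by
  apply Over.OverMorphism.ext
  show Spec.map _ ≫ Spec.map _ = Spec.map _
  rw [← Spec.map_comp]
  congr 1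
  exact CommRingCat.hom_ext h.comp_algebraMap

/-- A family over `Spec C` as a homomorphism on points of algebras over `C`. -/
def famPointHom {C : Type u} [CommRing C] [Algebra R C] (x : H ⊗ X j C ⟶ G) (hx : AutFam.IsHomFamily H G x) :
    PointHom (Spec.map (CommRingCat.ofHom (algebraMap R C)) ≫ j) H G (⊥ : Ideal C) where
  f D _ _ _ a := lift a (toC C D) ≫ x
  mul D _ _ _ a b := hx _ a b (toC C D)
  nat {D D'} _ _ _ _ h _ _ a := by
    exact (congrArg (· ≫ x) ((congrArg (lift _) (mor_toC (j := j) C h).symm).trans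
      (comp_lift (Cocycle.mor _ h) a (toC (j := j) C D)).symm)).trans (Category.assoc _ _ _)

include e' in
/-- A family of homomorphisms is locally given by a homomorphism of characters. -/
theorem exists_local_family [IsAffineHom H.hom] [Monoid.FG N] {C : Type u} [CommRing C] [Algebra R C]
    (x : H ⊗ X j C ⟶ G) (hx : AutFam.IsHomFamily H G x) (p : PrimeSpectrum C) :
    ∃ f : C, f ∉ p.asIdeal ∧ ∃ φ : N →* M, ∀ (D : Type u) [CommRing D] [Algebra R D] (h : C →ₐ[R] D),
      IsUnit (h f) → (H ◁ Cocycle.mor j h) ≫ x = fam e e' φ D := by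
  let θ : R →+* C := algebraMap R C
  obtain ⟨f, hf, φ, hφ⟩ := exists_local_pointHom (e.restrict θ rfl) (e'.restrict θ rfl) (famPointHom x hx) p
  refine ⟨f, hf, φ, fun D _ _ h hu => hom_ext_uPt e ?_⟩
  let : Algebra C D := h.toRingHom.toAlgebra
  have hc : algebraMap R (MonoidAlgebra D M) = (algebraMap C (MonoidAlgebra D M)).comp θ := by
    refine RingHom.ext fun r => ?_
    rw [IsScalarTower.algebraMap_apply R D (MonoidAlgebra D M), RingHom.comp_apply,
      IsScalarTower.algebraMap_apply C D (MonoidAlgebra D M)]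
    exact congrArg (algebraMap D _) (h.commutes r).symm
  have h1 := hφ D hu fun r hr => by rw [Ideal.mem_bot.1 hr, map_zero]
  rw [Chart.restrict_pt θ rfl e hc, Chart.restrict_pt θ rfl e' hc] at h1
  rw [uPt_fam, ← cancel_epi (adR θ rfl (MonoidAlgebra D M) hc), ← h1, ← Category.assoc, ← Category.assoc]
  show _ = lift _ _ ≫ x
  congr 1
  rw [uPt, Category.assoc, lift_whiskerLeft, comp_lift, ← mor_comp]
  congr 1

include e e' in
/-- Over a chart the scheme of homomorphisms is finite etale. -/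
theorem finite_etale_chart [IsAffineHom H.hom] [Monoid.FG N] [Finite (N →* M)] {A : Over S} {υ : H ⊗ A ⟶ G}
    (hA : AutFam.RepresentsHom H G A υ) [IsAffineHom A.hom] :
    IsFinite (pullback.snd A.hom (X j R).hom) ∧ Etale (pullback.snd A.hom (X j R).hom) := by
  let Φ : Type u := ULift.{u} (N →* M)
  let P : Over S := X j R
  have hhom : ∀ {T : Over S} (a : T ⟶ A), AutFam.IsHomFamily H G ((H ◁ a) ≫ υ) := fun a Y g₁ g₂ t => by
    simp only [lift_whiskerLeft_assoc]
    exact hA.1 Y g₁ g₂ _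
  choose a ha using fun φ : Φ => (hA.2 P (fam e e' φ.down R) (isHomFamily_fam e e' φ.down R)).exists
  let Q := A ⊗ P
  let sd : ∐ (fun _ : Φ => P.left) ⟶ Q.left := Sigma.desc fun φ => (lift (a φ) (𝟙 P)).left
  have hsd : sd ≫ (snd A P).left = Sigma.desc fun _ : Φ => 𝟙 P.left := Sigma.hom_ext _ _ fun φ => by
    rw [Sigma.ι_desc_assoc, Sigma.ι_desc]
    exact congrArg (fun m => m.left) (lift_snd (a φ) (𝟙 P))
  -- points over a ring agree only for equal homomorphisms
  have hsep : ∀ (φ φ' : Φ) (K : Type u) [Field K] (v v' : Spec (CommRingCat.of K) ⟶ P.left),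
      v ≫ (lift (a φ) (𝟙 P)).left = v' ≫ (lift (a φ') (𝟙 P)).left → φ = φ' ∧ v = v' := by
    intro φ φ' K _ v v' hv
    have hvv : v = v' := by
      have h1 := congrArg (· ≫ (snd A P).left) hv
      simp only [Category.assoc, ← Over.comp_left, lift_snd] at h1
      simpa using h1
    subst hvv
    obtain ⟨ψ, rfl⟩ := Spec.map_surjective v
    let : Algebra R K := ψ.hom.toAlgebra
    let v₀ : X j K ⟶ P := Cocycle.mor j (Algebra.ofId R K)
    have hv₀ : v₀.left = Spec.map ψ := rfl
    have h2 : v₀ ≫ a φ = v₀ ≫ a φ' := Over.OverMorphism.ext (by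
      have h3 := congrArg (· ≫ (fst A P).left) hv
      simp only [Category.assoc, ← Over.comp_left, lift_fst] at h3
      rw [Over.comp_left, Over.comp_left, hv₀]
      exact h3)
    have h4 : fam e e' φ.down K = fam e e' φ'.down K := by
      rw [← fam_res e e' φ.down (Algebra.ofId R K), ← fam_res e e' φ'.down (Algebra.ofId R K), ← ha φ, ← ha φ']
      show (H ◁ v₀) ≫ (H ◁ a φ) ≫ υ = (H ◁ v₀) ≫ (H ◁ a φ') ≫ υ
      rw [← Category.assoc, ← MonoidalCategory.whiskerLeft_comp, h2, MonoidalCategory.whiskerLeft_comp,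
        Category.assoc]
    exact ⟨ULift.ext _ _ (fam_injective e e' h4), rfl⟩
  have hmono : Mono sd := by
    constructor
    intro Z g₁ g₂ hg
    have hr : g₁ ≫ (Sigma.desc fun _ : Φ => 𝟙 P.left) = g₂ ≫ (Sigma.desc fun _ : Φ => 𝟙 P.left) := by
      rw [← hsd, ← Category.assoc, hg, Category.assoc]
    refine Scheme.Cover.hom_ext ((sigmaOpenCover fun _ : Φ => P.left).pullback₁ g₁) _ _ fun (φ : Φ) => ?_
    let q₁ : pullback g₁ (Sigma.ι (fun _ : Φ => P.left) φ) ⟶ Z := pullback.fst _ _
    show q₁ ≫ g₁ = q₁ ≫ g₂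
    have hrange : Set.range (q₁ ≫ g₂) ⊆ Set.range (Sigma.ι (fun _ : Φ => P.left) φ) := by
      rintro _ ⟨z, rfl⟩
      obtain ⟨φ', w, hw⟩ := (sigmaOpenCover fun _ : Φ => P.left).exists_eq ((q₁ ≫ g₂) z)
      let Zr := pullback g₁ (Sigma.ι (fun _ : Φ => P.left) φ)
      let K := Zr.residueField z
      let o : Spec (CommRingCat.of K) ⟶ Zr := Zr.fromSpecResidueField z
      have hrg : Set.range (o ≫ q₁ ≫ g₂) ⊆ Set.range (Sigma.ι (fun _ : Φ => P.left) φ') := by
        rintro _ ⟨t, rfl⟩
        refine ⟨w, hw.trans ?_⟩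
        show (q₁ ≫ g₂) z = (q₁ ≫ g₂) (o t)
        rw [show o t = z from Scheme.fromSpecResidueField_apply z t]
      let v' := IsOpenImmersion.lift (Sigma.ι (fun _ : Φ => P.left) φ') (o ≫ q₁ ≫ g₂) hrg
      have hv' : v' ≫ Sigma.ι (fun _ : Φ => P.left) φ' = o ≫ q₁ ≫ g₂ := IsOpenImmersion.lift_fac _ _ _
      obtain ⟨rfl, -⟩ := hsep φ φ' K (o ≫ pullback.snd g₁ (Sigma.ι (fun _ : Φ => P.left) φ)) v' (by
        have h1 : v' ≫ Sigma.ι (fun _ : Φ => P.left) φ' ≫ sd =
            (o ≫ pullback.snd g₁ (Sigma.ι (fun _ : Φ => P.left) φ)) ≫ Sigma.ι (fun _ : Φ => P.left) φ ≫ sd := by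
          rw [← Category.assoc, hv', Category.assoc, Category.assoc, ← hg, Category.assoc]
          exact congrArg (o ≫ ·) ((Category.assoc _ _ _).symm.trans
            ((congrArg (· ≫ sd) pullback.condition).trans (Category.assoc _ _ _)))
        rw [Sigma.ι_desc, Sigma.ι_desc] at h1
        exact h1.symm)
      exact ⟨w, hw⟩
    rw [← IsOpenImmersion.lift_fac (Sigma.ι (fun _ : Φ => P.left) φ) (q₁ ≫ g₂) hrange]
    have h1 : q₁ ≫ g₁ = pullback.snd g₁ _ ≫ Sigma.ι (fun _ : Φ => P.left) φ := pullback.condition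
    rw [h1]
    congr 1
    have h2 := congrArg (q₁ ≫ ·) hr
    simp only [← Category.assoc, h1] at h2
    rw [← IsOpenImmersion.lift_fac (Sigma.ι (fun _ : Φ => P.left) φ) (q₁ ≫ g₂) hrange] at h2
    simpa only [Category.assoc, Sigma.ι_desc, Category.comp_id] using h2
  -- local sections
  have : IsAffine Q.left := by
    have : IsAffineHom (pullback.snd A.hom P.hom) := MorphismProperty.pullback_snd _ _ ‹_›
    have : IsAffine P.left := inferInstanceAs (IsAffine (Spec (CommRingCat.of R)))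
    exact isAffine_of_isAffineHom (pullback.snd A.hom P.hom)
  obtain ⟨ψ, hψ⟩ := Spec.map_surjective (Q.left.isoSpec.inv ≫ (snd A P).left)
  let C : Type u := Γ(Q.left, ⊤)
  let : Algebra R C := ψ.hom.toAlgebra
  let i : X j C ⟶ Q := Over.homMk Q.left.isoSpec.inv (by
    show Q.left.isoSpec.inv ≫ Q.hom = Spec.map ψ ≫ j
    rw [hψ, Category.assoc, ← Over.w (snd A P)]
    congr 2
    show Spec.map (CommRingCat.ofHom (RingHom.id R)) ≫ j = j
    rw [CommRingCat.ofHom_id, Spec.map_id, Category.id_comp])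
  have hi : i ≫ snd A P = Cocycle.mor j (Algebra.ofId R C) := Over.OverMorphism.ext hψ.symm
  have hloc : ∀ p : PrimeSpectrum C, ∃ f : C, f ∉ p.asIdeal ∧
      ∃ s : Spec (CommRingCat.of (Localization.Away f)) ⟶ ∐ (fun _ : Φ => P.left),
        s ≫ sd = Spec.map (CommRingCat.ofHom (algebraMap C (Localization.Away f))) ≫ Q.left.isoSpec.inv := by
    intro p
    obtain ⟨f, hf, φ, hφ⟩ := exists_local_family e e' ((H ◁ (i ≫ fst A P)) ≫ υ) (hhom _) p
    let D : Type u := Localization.Away f
    let h : C →ₐ[R] D := IsScalarTower.toAlgHom R C D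
    let v : X j D ⟶ P := Cocycle.mor j (Algebra.ofId R D)
    have hv : (Cocycle.mor j h ≫ i ≫ fst A P) = v ≫ a ⟨φ⟩ := by
      refine (hA.2 _ _ (hhom (v ≫ a ⟨φ⟩))).unique ?_ rfl
      rw [MonoidalCategory.whiskerLeft_comp, Category.assoc, hφ D h (IsLocalization.Away.algebraMap_isUnit f),
        MonoidalCategory.whiskerLeft_comp, Category.assoc, ha ⟨φ⟩, fam_res]
    refine ⟨f, hf, v.left ≫ Sigma.ι (fun _ : Φ => P.left) ⟨φ⟩, ?_⟩
    rw [Category.assoc, Sigma.ι_desc]
    have h3 : v ≫ lift (a ⟨φ⟩) (𝟙 P) = Cocycle.mor j h ≫ i := by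
      apply CartesianMonoidalCategory.hom_ext
      · rw [Category.assoc, lift_fst, Category.assoc, hv]
      · rw [Category.assoc, lift_snd, Category.comp_id, Category.assoc, hi, ← mor_comp]
        exact congrArg (Cocycle.mor j) (Subsingleton.elim _ _)
    exact congrArg (fun m => m.left) h3
  choose f hf s hs using hloc
  let U : PrimeSpectrum C → Scheme.{u} := fun p => Spec (CommRingCat.of (Localization.Away (f p)))
  let o : ∀ p, U p ⟶ Q.left := fun p =>
    Spec.map (CommRingCat.ofHom (algebraMap C (Localization.Away (f p)))) ≫ Q.left.isoSpec.inv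
  have ho : ∀ p, IsOpenImmersion (o p) := fun p => by
    have : IsOpenImmersion (Spec.map (CommRingCat.ofHom (algebraMap C (Localization.Away (f p))))) :=
      IsOpenImmersion.of_isLocalization (f p)
    infer_instance
  let 𝒱 : Q.left.OpenCover := Scheme.Cover.mkOfCovers (PrimeSpectrum C) U o (fun z => by
    let p : PrimeSpectrum C := Q.left.isoSpec.hom z
    obtain ⟨w, hw⟩ : p ∈ Set.range (PrimeSpectrum.comap (algebraMap C (Localization.Away (f p)))) := by
      rw [PrimeSpectrum.localization_away_comap_range _ (f p)]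
      exact hf p
    refine ⟨p, (w : ↥(U p)), ?_⟩
    refine (congrArg Q.left.isoSpec.inv hw).trans ?_
    show Q.left.isoSpec.inv (Q.left.isoSpec.hom z) = z
    rw [← Scheme.Hom.comp_apply, Iso.hom_inv_id]
    rfl) ho
  let σ : Q.left ⟶ ∐ (fun _ : Φ => P.left) := 𝒱.glueMorphisms s fun x y => by
    rw [← cancel_mono sd, Category.assoc, Category.assoc]
    exact (congrArg (pullback.fst _ _ ≫ ·) (hs x)).trans (pullback.condition.trans (congrArg (pullback.snd _ _ ≫ ·) (hs y)).symm)
  have hσ : σ ≫ sd = 𝟙 _ := Scheme.Cover.hom_ext 𝒱 _ _ fun p => by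
    rw [← Category.assoc, Scheme.Cover.ι_glueMorphisms, Category.comp_id]
    exact hs p
  have : IsIso sd := ⟨σ, by rw [← cancel_mono sd, Category.assoc, hσ, Category.comp_id, Category.id_comp], hσ⟩
  have h0 : (snd A P).left = inv sd ≫ Sigma.desc fun _ : Φ => 𝟙 P.left := by rw [← hsd, IsIso.inv_hom_id_assoc]
  have : IsAffine P.left := inferInstanceAs (IsAffine (Spec (CommRingCat.of R)))
  have : IsFinite (Sigma.desc fun _ : Φ => 𝟙 P.left) := Groth.L23.Coprod.isFinite_sigmaDesc _
  have : Etale (Sigma.desc fun _ : Φ => 𝟙 P.left) := IsZariskiLocalAtSource.sigmaDesc fun _ => inferInstance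
  constructor
  · show IsFinite (snd A P).left
    rw [h0]; infer_instance
  · show Etale (snd A P).left
    rw [h0]; infer_instance

end Groth.L25.HomScheme
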