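import Groth.Agent.L25.HomScheme.Glue
import Mathlib.AlgebraicGeometry.Limits
import Mathlib.AlgebraicGeometry.Gluing

/-!
# Representing objects over an affine open cover
-/

set_option autoImplicit false
universe u v

open CategoryTheory CategoryTheory.Limits MonoidalCategory CartesianMonoidalCategory
open AlgebraicGeometry

set_option backward.isDefEq.respectTransparency.types false

noncomputable section

namespace Groth.L25.HomScheme

open Groth.L20.SchDesc

variable {S : Scheme.{u}}

/-- A jointly surjective family of open immersions over `S`. -/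
structure IsOpenFamily {T : Over S} {ι : Type u} (U : ι → Over S) (j : ∀ i, U i ⟶ T) : Prop where
  isOpenImmersion : ∀ i, IsOpenImmersion (j i).left
  covers : ∀ t : T.left, ∃ i, t ∈ Set.range (j i).left

namespace IsOpenFamily

variable {T : Over S} {ι : Type u} {U : ι → Over S} {j : ∀ i, U i ⟶ T} (h : IsOpenFamily U j)

/-- The open cover. -/
@[simps! I₀ X f]
def cover : T.left.OpenCover :=
  Scheme.Cover.mkOfCovers ι (fun i => (U i).left) (fun i => (j i).left)
    (fun t => (h.covers t).imp fun _ hi => hi) h.isOpenImmersion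

include h

theorem hom_ext {W : Over S} {a b : T ⟶ W} (e : ∀ i, j i ≫ a = j i ≫ b) : a = b :=
  Over.OverMorphism.ext (Scheme.Cover.hom_ext h.cover _ _ fun i => congrArg (fun m => m.left) (e i))

theorem exists_glue {W : Over S} (a : ∀ i, U i ⟶ W)
    (hc : ∀ i k (Z : Over S) (p : Z ⟶ U i) (q : Z ⟶ U k), p ≫ j i = q ≫ j k → p ≫ a i = q ≫ a k) :
    ∃ b : T ⟶ W, ∀ i, j i ≫ b = a i := by
  let g := h.cover.glueMorphisms (fun i => (a i).left) fun i k => by
    let Z : Over S := Over.mk (pullback.fst (j i).left (j k).left ≫ (U i).hom)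
    let p : Z ⟶ U i := Over.homMk (pullback.fst (j i).left (j k).left) rfl
    let q : Z ⟶ U k := Over.homMk (pullback.snd (j i).left (j k).left) (by
      show pullback.snd (j i).left (j k).left ≫ (U k).hom = _
      rw [← Over.w (j k), ← pullback.condition_assoc, Over.w (j i)]
      rfl)
    exact congrArg (fun m => m.left) (hc i k Z p q (Over.OverMorphism.ext pullback.condition))
  have hg : ∀ i, (j i).left ≫ g = (a i).left := fun i => Scheme.Cover.ι_glueMorphisms h.cover _ _ i
  refine ⟨Over.homMk g (Scheme.Cover.hom_ext h.cover _ _ fun i => ?_),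
    fun i => Over.OverMorphism.ext (hg i)⟩
  show (j i).left ≫ g ≫ W.hom = (j i).left ≫ T.hom
  rw [← Category.assoc, hg, Over.w (a i), Over.w (j i)]

end IsOpenFamily

namespace Fam

variable (F : Fam.{u, v} S)

/-- Sections are determined on open coverings. -/
def ZarSep : Prop :=
  ∀ (T : Over S) (ι : Type u) (U : ι → Over S) (j : ∀ i, U i ⟶ T), IsOpenFamily U j →
    ∀ x y : F.obj T, (∀ i, F.res (j i) x = F.res (j i) y) → x = y

/-- Compatible sections glue on open coverings. -/
def ZarGlue : Prop :=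
  ∀ (T : Over S) (ι : Type u) (U : ι → Over S) (j : ∀ i, U i ⟶ T), IsOpenFamily U j →
    ∀ x : ∀ i, F.obj (U i),
      (∀ i k (Z : Over S) (a : Z ⟶ U i) (b : Z ⟶ U k), a ≫ j i = b ≫ j k →
        F.res a (x i) = F.res b (x k)) →
      ∃ y, ∀ i, F.res (j i) y = x i

variable {F}

theorem ZarSep.subsingleton (hs : F.ZarSep) (T : Over S) [IsEmpty T.left] : Subsingleton (F.obj T) :=
  ⟨fun x y => hs T PEmpty (fun i => i.elim) (fun i => i.elim)
    ⟨fun i => i.elim, fun t => isEmptyElim t⟩ x y fun i => i.elim⟩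

/-- Universality over `P` may be checked on affine schemes. -/
theorem IsRepOn.of_affine (hs : F.ZarSep) {P A : Over S} {r : A ⟶ P} {ξ : F.obj A}
    (h : ∀ (T : Over S) [IsAffine T.left] (p : T ⟶ P) (x : F.obj T), ∃! a : T ⟶ A, a ≫ r = p ∧ F.res a ξ = x) :
    F.IsRepOn r ξ := by
  have huniq : ∀ (T : Over S) (a b : T ⟶ A), a ≫ r = b ≫ r → F.res a ξ = F.res b ξ → a = b := by
    intro T a b e₁ e₂
    refine Over.OverMorphism.ext (Scheme.Cover.hom_ext T.left.affineCover _ _ fun i => ?_)
    let k : Over.mk (T.left.affineCover.f i ≫ T.hom) ⟶ T := Over.homMk (T.left.affineCover.f i) rfl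
    have : IsAffine (Over.mk (T.left.affineCover.f i ≫ T.hom)).left :=
      inferInstanceAs (IsAffine (T.left.affineCover.X i))
    have h1 := (h _ ((k ≫ b) ≫ r) (F.res (k ≫ b) ξ)).unique (y₁ := k ≫ a) (y₂ := k ≫ b)
      ⟨by rw [Category.assoc, Category.assoc, e₁], by rw [F.res_comp, F.res_comp, e₂]⟩ ⟨rfl, rfl⟩
    exact congrArg (fun m => m.left) h1
  intro T p x
  let U : T.left.affineCover.I₀ → Over S := fun i => Over.mk (T.left.affineCover.f i ≫ T.hom)
  let k : ∀ i, U i ⟶ T := fun i => Over.homMk (T.left.affineCover.f i) rfl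
  have hU : IsOpenFamily U k := ⟨fun i => inferInstanceAs (IsOpenImmersion (T.left.affineCover.f i)),
    fun t => T.left.affineCover.exists_eq t⟩
  have : ∀ i, IsAffine (U i).left := fun i => inferInstanceAs (IsAffine (T.left.affineCover.X i))
  choose a ha using fun i => (h (U i) (k i ≫ p) (F.res (k i) x)).exists
  obtain ⟨b, hb⟩ := hU.exists_glue a fun i l Z c d e => by
    refine huniq Z _ _ ?_ ?_
    · rw [Category.assoc, Category.assoc, (ha i).1, (ha l).1, ← Category.assoc, ← Category.assoc, e]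
    · rw [F.res_comp, F.res_comp, (ha i).2, (ha l).2, ← F.res_comp, ← F.res_comp, e]
  have hb₁ : b ≫ r = p := hU.hom_ext fun i => by rw [← Category.assoc, hb, (ha i).1]
  have hb₂ : F.res b ξ = x := hs T _ U k hU _ _ fun i => by rw [← F.res_comp, hb, (ha i).2]
  exact ⟨b, ⟨hb₁, hb₂⟩, fun c hc => huniq T c b (hc.1.trans hb₁.symm) (hc.2.trans hb₂.symm)⟩

section Sigma

variable {ι : Type u} {P : ι → Over S} {A : ι → Over S} {r : ∀ i, A i ⟶ P i}

/-- The coproduct. -/
abbrev sig (P : ι → Over S) : Over S := Over.mk (Sigma.desc fun i => (P i).hom)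

/-- The inclusion of a summand. -/
def inc (P : ι → Over S) (i : ι) : P i ⟶ sig P :=
  Over.homMk (Sigma.ι (fun i => (P i).left) i) (Sigma.ι_desc _ _)

@[simp] theorem inc_left (P : ι → Over S) (i : ι) :
    (inc P i).left = Sigma.ι (fun i => (P i).left) i := rfl

theorem inc_openFamily (P : ι → Over S) : IsOpenFamily P (inc P) :=
  ⟨fun i => inferInstanceAs (IsOpenImmersion (Sigma.ι (fun i => (P i).left) i)),
    fun t => (sigmaOpenCover fun i => (P i).left).exists_eq t⟩

theorem isEmpty_of_inc {Z : Over S} {i k : ι} (a : Z ⟶ P i) (b : Z ⟶ P k)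
    (e : a ≫ inc P i = b ≫ inc P k) (hik : i ≠ k) : IsEmpty Z.left :=
  isEmpty_of_commSq_sigmaι_of_ne (g := fun i => (P i).left)
    ⟨congrArg (fun m => m.left) e⟩ hik

/-- The coproduct of maps. -/
def sigMap (r : ∀ i, A i ⟶ P i) : sig A ⟶ sig P :=
  Over.homMk (Sigma.desc fun i => (r i).left ≫ Sigma.ι (fun i => (P i).left) i) (by
    refine Sigma.hom_ext _ _ fun i => ?_
    show Sigma.ι _ i ≫ Sigma.desc (fun i => (r i).left ≫ Sigma.ι (fun i => (P i).left) i) ≫
      Sigma.desc (fun i => (P i).hom) = Sigma.ι _ i ≫ Sigma.desc fun i => (A i).hom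
    rw [Sigma.ι_desc_assoc, Category.assoc, Sigma.ι_desc, Sigma.ι_desc, Over.w (r i)])

theorem inc_sigMap (i : ι) : inc A i ≫ sigMap r = r i ≫ inc P i :=
  Over.OverMorphism.ext (Sigma.ι_desc _ _)

theorem isPullback_inc (i : ι) :
    IsPullback (r i).left (inc A i).left (inc P i).left (sigMap r).left := by
  have : IsOpenImmersion (inc A i).left := (inc_openFamily A).isOpenImmersion i
  have : IsOpenImmersion (inc P i).left := (inc_openFamily P).isOpenImmersion i
  refine IsOpenImmersion.isPullback _ _ _ _ (congrArg (fun m : A i ⟶ sig P => m.left) (inc_sigMap (r := r) i)) ?_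
  ext z
  obtain ⟨k, z, rfl⟩ := (sigmaOpenCover fun i => (A i).left).exists_eq z
  show (sigMap r).left (Sigma.ι (fun i => (A i).left) k z) ∈ Set.range (Sigma.ι (fun i => (P i).left) i) ↔
    Sigma.ι (fun i => (A i).left) k z ∈ Set.range (Sigma.ι (fun i => (A i).left) i)
  have e : (sigMap r).left (Sigma.ι (fun i => (A i).left) k z) =
      Sigma.ι (fun i => (P i).left) k ((r k).left z) := by
    rw [← Scheme.Hom.comp_apply, ← Scheme.Hom.comp_apply]
    exact congrArg (fun m : _ ⟶ sig P => m.left z) (inc_sigMap k)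
  rw [e]
  constructor
  · rintro ⟨w, hw⟩
    obtain ⟨rfl⟩ := ((sigmaι_eq_iff (fun i => (P i).left) _ _ _ _).1 hw)
    exact ⟨z, rfl⟩
  · rintro ⟨w, hw⟩
    obtain ⟨rfl⟩ := ((sigmaι_eq_iff (fun i => (A i).left) _ _ _ _).1 hw)
    exact ⟨_, rfl⟩

/-- Coproducts of representing objects represent. -/
theorem exists_isRepOn_sigma (hs : F.ZarSep) (hg : F.ZarGlue) {ξ : ∀ i, F.obj (A i)}
    (h : ∀ i, F.IsRepOn (r i) (ξ i)) : ∃ η, F.IsRepOn (sigMap r) η ∧ ∀ i, F.res (inc A i) η = ξ i := by
  obtain ⟨η, hη⟩ := hg (sig A) ι A (inc A) (inc_openFamily A) ξ fun i k Z a b e => by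
    by_cases hik : i = k
    · subst hik
      have : IsOpenImmersion (inc A i).left := (inc_openFamily A).isOpenImmersion i
      have : Mono (inc A i) := Over.mono_of_mono_left _
      rw [(cancel_mono _).1 e]
    · have := isEmpty_of_inc a b e hik
      exact (hs.subsingleton Z).elim _ _
  refine ⟨η, fun T p x => ?_, hη⟩
  let U : ι → Over S := fun i => Over.mk (pullback.fst p.left (inc P i).left ≫ T.hom)
  let k : ∀ i, U i ⟶ T := fun i => Over.homMk (pullback.fst p.left (inc P i).left) rfl
  let q : ∀ i, U i ⟶ P i := fun i => Over.homMk (pullback.snd p.left (inc P i).left) (by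
    show pullback.snd p.left (inc P i).left ≫ (P i).hom = pullback.fst p.left (inc P i).left ≫ T.hom
    rw [← Over.w p, pullback.condition_assoc, Over.w (inc P i)])
  have hkq : ∀ i, k i ≫ p = q i ≫ inc P i := fun i => Over.OverMorphism.ext pullback.condition
  have hU : IsOpenFamily U k := by
    refine ⟨fun i => ?_, fun t => ?_⟩
    · have : IsOpenImmersion (inc P i).left := (inc_openFamily P).isOpenImmersion i
      exact MorphismProperty.pullback_fst p.left (inc P i).left this
    · obtain ⟨i, w, hw⟩ := (inc_openFamily P).covers (p.left t)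
      obtain ⟨z, hz, -⟩ := Scheme.Pullback.exists_preimage_pullback t w hw.symm
      exact ⟨i, z, hz⟩
  choose a ha using fun i => (h i (U i) (q i) (F.res (k i) x)).exists
  have hlift : ∀ i (b : U i ⟶ sig A), b ≫ sigMap r = q i ≫ inc P i → ∃ c, c ≫ inc A i = b ∧ c ≫ r i = q i := by
    intro i b e
    have e' : (q i).left ≫ (inc P i).left = b.left ≫ (sigMap r).left :=
      (congrArg (fun m => m.left) e).symm
    refine ⟨Over.homMk ((isPullback_inc i).lift (q i).left b.left e') ?_,
      Over.OverMorphism.ext ((isPullback_inc i).lift_snd _ _ _),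
      Over.OverMorphism.ext ((isPullback_inc i).lift_fst _ _ _)⟩
    rw [← Over.w (r i), (isPullback_inc i).lift_fst_assoc, Over.w (q i)]
  obtain ⟨b, hb⟩ := hU.exists_glue (fun i => a i ≫ inc A i) fun i l Z c d e => by
    by_cases hil : i = l
    · subst hil
      have : IsOpenImmersion (k i).left := hU.isOpenImmersion i
      have : Mono (k i) := Over.mono_of_mono_left _
      rw [(cancel_mono _).1 e]
    · have : IsEmpty Z.left := isEmpty_of_inc (c ≫ q i) (d ≫ q l) (by
        rw [Category.assoc, Category.assoc, ← hkq, ← hkq, ← Category.assoc, ← Category.assoc, e]) hil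
      exact Over.OverMorphism.ext (isInitialOfIsEmpty.hom_ext _ _)
  have hb₁ : b ≫ sigMap r = p := hU.hom_ext fun i => by
    rw [← Category.assoc, hb, Category.assoc, inc_sigMap, reassoc_of% (ha i).1, hkq]
  have hb₂ : F.res b η = x := hs T _ U k hU _ _ fun i => by
    rw [← F.res_comp, hb, F.res_comp, hη, (ha i).2]
  refine ⟨b, ⟨hb₁, hb₂⟩, fun c hc => hU.hom_ext fun i => ?_⟩
  obtain ⟨c', hc', hc''⟩ := hlift i (k i ≫ c) (by rw [Category.assoc, hc.1, hkq])
  have : c' = a i := (h i).ext (hc''.trans (ha i).1.symm) (by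
    rw [(ha i).2, ← hη i, ← F.res_comp, hc', F.res_comp, hc.2])
  rw [hb, ← this, hc']

end Sigma

end Fam

open Fam in
/-- Representing objects glue along open coverings of the base. -/
theorem Fam.exists_rep_openFamily {F : Fam.{u, v} S} (hs : F.ZarSep) (hg : F.ZarGlue)
    (hsep : ∀ (P : Over S) [Cov P.hom] (T : Over S), F.Sep (fst T P))
    (hdesc : ∀ (P : Over S) [Cov P.hom] (T : Over S), F.Desc (fst T P))
    {ι : Type u} (P : ι → Over S) [∀ i, IsOpenImmersion (P i).hom]
    (hP : ∀ s : S, ∃ i, s ∈ Set.range (P i).hom) {A : ι → Over S} (r : ∀ i, A i ⟶ P i)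
    (ξ : ∀ i, F.obj (A i)) (h : ∀ i, F.IsRepOn (r i) (ξ i)) (haff : ∀ i, IsAffineHom (r i).left) :
    ∃ (A₀ : Over S) (η : F.obj A₀), F.IsRep A₀ η ∧
      ∀ (Q : MorphismProperty Scheme.{u}) [IsZariskiLocalAtTarget Q], (∀ i, Q (r i).left) → Q A₀.hom := by
  obtain ⟨η₁, hη₁, -⟩ := exists_isRepOn_sigma hs hg h
  have hsurj : Surjective (sig P).hom := ⟨fun s => by
    obtain ⟨i, z, hz⟩ := hP s
    refine ⟨(inc P i).left z, ?_⟩
    rw [← Scheme.Hom.comp_apply]
    exact (congrArg (fun m : (P i).left ⟶ S => m z) (Over.w (inc P i))).trans hz⟩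
  have : Flat (sig P).hom := IsZariskiLocalAtSource.sigmaDesc fun i => inferInstance
  have : LocallyOfFinitePresentation (sig P).hom :=
    IsZariskiLocalAtSource.sigmaDesc fun i => inferInstance
  have : Cov (sig P).hom := ⟨inferInstance, hsurj, _, _, 𝟙 _, 𝟙 _, (sig P).hom, rfl,
    inferInstance, inferInstance, inferInstance, inferInstance, hsurj, inferInstance⟩
  let 𝒰 : (sig P).left.OpenCover := sigmaOpenCover fun i => (P i).left
  have haff' : IsAffineHom (sigMap r).left := by
    refine IsZariskiLocalAtTarget.of_openCover 𝒰 fun i => ?_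
    show IsAffineHom (pullback.snd (sigMap r).left (inc P i).left)
    rw [← (isPullback_inc (r := r) i).flip.isoPullback_inv_snd]
    exact (MorphismProperty.cancel_left_of_respectsIso @IsAffineHom _ _).2 (haff i)
  obtain ⟨A₀, η, hη, q, sq, -⟩ := hη₁.exists_rep
    (Groth.L20.isIndQuasiAffineHom_of_isQuasiAffineHom _ ⟨inferInstance, fun V hV => by
      have : IsAffine ((sigMap r).left ⁻¹ᵁ V) := hV.preimage (sigMap r).left
      infer_instance⟩) (hsep _) (hdesc _)
  refine ⟨A₀, η, hη, fun Q _ hQ => ?_⟩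
  let 𝒱 : S.OpenCover := Scheme.Cover.mkOfCovers ι (fun i => (P i).left) (fun i => (P i).hom)
    (fun s => (hP s).imp fun _ hi => hi) (fun i => inferInstance)
  refine IsZariskiLocalAtTarget.of_openCover 𝒱 fun i => ?_
  show Q (pullback.snd A₀.hom (P i).hom)
  have sq' : IsPullback (r i).left ((inc A i).left ≫ q.left) (P i).hom A₀.hom := by
    have h1 := (isPullback_inc (r := r) i).paste_vert sq
    rwa [show (inc P i).left ≫ (sig P).hom = (P i).hom from Over.w (inc P i)] at h1
  rw [← sq'.flip.isoPullback_inv_snd]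
  exact (MorphismProperty.cancel_left_of_respectsIso Q _ _).2 (hQ i)

end Groth.L25.HomScheme
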