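import Groth.Agent.L25.HomScheme.ConstRep
import Groth.Agent.L25.HomSmooth.Main
import Groth.Agent.L25.TrivLocus
import Mathlib.AlgebraicGeometry.Morphisms.UniversallyOpen

/-!
# Homomorphisms of quasi-isotrivial groups of multiplicative type form a twisted constant scheme
-/

set_option autoImplicit false
universe u

open CategoryTheory CategoryTheory.Limits MonoidalCategory CartesianMonoidalCategory
open AlgebraicGeometry
open scoped MonObj

set_option backward.isDefEq.respectTransparency.types false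

noncomputable section

namespace Groth.L25.HomScheme

open Groth.L25.Cocycle Groth.L20.SchDesc

variable {S : Scheme.{u}}

/-- Etale locally split groups are fpqc locally split. -/
theorem fpqc_of_etale {H : Over S} [GrpObj H]
    (hH : TwC.Locally S TwC.Topology.etale (fun S' f => ∃ (M : Type) (_ : AddCommGroup M),
      Nonempty (Grp.mk (Red.bc f H) ≅ Grp.mk (Red.DS S' M)))) :
    TwC.Locally S TwC.Topology.fpqc (fun S' f => ∃ (M : Type) (_ : AddCommGroup M),
      Nonempty (Grp.mk (Red.bc f H) ≅ Grp.mk (Red.DS S' M))) := by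
  choose T f hf hs M inst e using hH
  let q : ∐ T ⟶ S := Sigma.desc f
  have : Flat q := IsZariskiLocalAtSource.sigmaDesc fun s => by have := hf s; infer_instance
  have : LocallyOfFinitePresentation q :=
    IsZariskiLocalAtSource.sigmaDesc fun s => by have := hf s; infer_instance
  have hsurj : Surjective q := ⟨fun s => by
    obtain ⟨z, hz⟩ := hs s
    refine ⟨Sigma.ι T s z, ?_⟩
    rw [← Scheme.Hom.comp_apply, Sigma.ι_desc]
    exact hz⟩
  refine ⟨∐ T, q, inferInstance, hsurj, fun V hV => ?_, fun x => ?_⟩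
  · obtain ⟨W, h1, h2⟩ := q.isOpenMap.exists_opens_image_eq_of_prespectralSpace q.continuous
      (U := (V : Set S)) (by rw [q.surjective.range_eq]; exact Set.subset_univ _) V.2 hV.isCompact
    exact ⟨W, h1, h2⟩
  · obtain ⟨s, z, rfl⟩ := exists_sigmaι_eq x
    let _ := inst s
    refine ⟨(Sigma.ι T s).opensRange, ⟨z, rfl⟩, M s, inst s,
      ⟨TrivLocus.restrictIso (f s) (Sigma.ι T s).isoOpensRange.inv (e s).some ?_⟩⟩
    rw [← Scheme.Hom.isoOpensRange_inv_comp (Sigma.ι T s), Category.assoc, Sigma.ι_desc]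

/-- Charts for two etale locally split groups around a point. -/
theorem exists_charts {H G : Over S} [GrpObj H] [GrpObj G]
    (hH : TwC.Locally S TwC.Topology.etale (fun S' f => ∃ (M : Type) (_ : AddCommGroup M),
      Nonempty (Grp.mk (Red.bc f H) ≅ Grp.mk (Red.DS S' M))))
    (hG : TwC.Locally S TwC.Topology.etale (fun S' f => ∃ (M : Type) (_ : AddCommGroup M),
      AddGroup.FG M ∧ Nonempty (Grp.mk (Red.bc f G) ≅ Grp.mk (Red.DS S' M)))) (s : S) :
    ∃ (R : Type u) (_ : CommRing R) (j : Spec (CommRingCat.of R) ⟶ S) (M N : Type) (_ : CommGroup M)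
      (_ : CommGroup N) (_ : Chart j H M) (_ : Chart j G N),
      Monoid.FG N ∧ Etale j ∧ s ∈ Set.range j := by
  obtain ⟨T₁, f₁, hf₁, ⟨z₁, hz₁⟩, M, instM, ⟨e₁⟩⟩ := hH s
  obtain ⟨T₂, f₂, hf₂, ⟨z₂, hz₂⟩, N, instN, hfg, ⟨e₂⟩⟩ := hG s
  obtain ⟨z, hz, -⟩ := Scheme.Pullback.exists_preimage_pullback (f := f₁) (g := f₂) z₁ z₂ (hz₁.trans hz₂.symm)
  obtain ⟨W, hW, hzW, -⟩ :=
    exists_isAffineOpen_mem_and_subset (X := pullback f₁ f₂) (x := z) (U := ⊤) trivial
  let k₁ := hW.fromSpec ≫ pullback.fst f₁ f₂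
  let k₂ := hW.fromSpec ≫ pullback.snd f₁ f₂
  have : Etale (pullback.fst f₁ f₂) := MorphismProperty.pullback_fst f₁ f₂ hf₂
  have hk : k₂ ≫ f₂ = k₁ ≫ f₁ := by
    simp only [k₁, k₂, Category.assoc, pullback.condition]
  have : Monoid.FG (Multiplicative N) :=
    AddMonoid.fg_iff_mul_fg.1 (AddGroup.fg_iff_addMonoid_fg.1 hfg)
  refine ⟨Γ(pullback f₁ f₂, W), inferInstance, k₁ ≫ f₁, Multiplicative M, Multiplicative N, inferInstance,
    inferInstance, Chart.ofSplit f₁ k₁ rfl e₁, Chart.ofSplit f₂ k₂ hk e₂, this, inferInstance, ?_⟩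
  obtain ⟨w, hw⟩ := hW.range_fromSpec.ge hzW
  refine ⟨w, ?_⟩
  show f₁ (pullback.fst f₁ f₂ (hW.fromSpec w)) = s
  rw [hw, hz, hz₁]

/-- Homomorphisms between quasi-isotrivial groups of multiplicative type are representable by a quasi-isotrivial
twisted constant scheme, constant on the given charts. -/
theorem exists_twConst (H G : Over S) [GrpObj H] [GrpObj G]
    (hH : TwC.Locally S TwC.Topology.etale (fun S' f => ∃ (M : Type) (_ : AddCommGroup M),
      Nonempty (Grp.mk (Red.bc f H) ≅ Grp.mk (Red.DS S' M))))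
    (hG : TwC.Locally S TwC.Topology.etale (fun S' f => ∃ (M : Type) (_ : AddCommGroup M),
      AddGroup.FG M ∧ Nonempty (Grp.mk (Red.bc f G) ≅ Grp.mk (Red.DS S' M)))) :
    ∃ (A : Over S) (υ : H ⊗ A ⟶ G), AutFam.RepresentsHom H G A υ ∧
      ∀ s : S, ∃ (R : Type u) (_ : CommRing R) (j : Spec (CommRingCat.of R) ⟶ S) (M N : Type) (_ : CommGroup M)
        (_ : CommGroup N) (e : Chart j H M) (e' : Chart j G N) (_ : IsAffineHom H.hom),
        Etale j ∧ s ∈ Set.range j ∧
        ∃ m : Fam.sig (fun _ : ULift.{u} (N →* M) => X j R) ⟶ A,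
          IsPullback m.left (copies (ULift.{u} (N →* M)) (X j R)).left A.hom j ∧
          ∀ φ, (H ◁ (Fam.inc _ φ ≫ m)) ≫ υ = fam e e' φ.down R := by
  have haff : IsAffineHom H.hom := HomSmooth.isAffineHom_of_locally (fpqc_of_etale hH)
  choose R hR j M N hM hN e e' hfg het hj using fun s => exists_charts hH hG s
  let _ := hR; let _ := hM; let _ := hN
  let P : S → Over S := fun s => X (j s) (R s)
  let Φ : S → Type u := fun s => ULift.{u} (N s →* M s)
  let A₁ : S → Over S := fun s => Fam.sig fun _ : Φ s => P s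
  let r : ∀ s, A₁ s ⟶ P s := fun s => copies (Φ s) (P s)
  choose ξ hξ hξ' using fun s => by have := hfg s; exact exists_isRepOn_const (e s) (e' s)
  obtain ⟨ξ₀, hξ₀, hξ₀inc⟩ := Fam.exists_isRepOn_sigma (F := homFam H G) homFam_zarSep homFam_zarGlue hξ
  have hPh : ∀ s, (P s).hom = j s := fun s => by
    show Spec.map (CommRingCat.ofHom (RingHom.id (R s))) ≫ j s = j s
    rw [CommRingCat.ofHom_id, Spec.map_id, Category.id_comp]
  have hsurj : Surjective (Fam.sig P).hom := ⟨fun s => by
    obtain ⟨z, hz⟩ := hj s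
    refine ⟨(Fam.inc P s).left z, ?_⟩
    rw [← Scheme.Hom.comp_apply]
    refine (congrArg (fun m : (P s).left ⟶ S => m z) (Over.w (Fam.inc P s))).trans ?_
    exact (congrArg (fun m : (P s).left ⟶ S => m z) (hPh s)).trans hz⟩
  have het' : ∀ s, Etale (P s).hom := fun s => by rw [hPh]; exact het s
  have : Flat (Fam.sig P).hom := IsZariskiLocalAtSource.sigmaDesc fun s => by have := het' s; infer_instance
  have : LocallyOfFinitePresentation (Fam.sig P).hom :=
    IsZariskiLocalAtSource.sigmaDesc fun s => by have := het' s; infer_instance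
  have : Cov (Fam.sig P).hom := ⟨inferInstance, hsurj, _, _, 𝟙 _, 𝟙 _, (Fam.sig P).hom, rfl,
    inferInstance, inferInstance, inferInstance, inferInstance, hsurj, inferInstance⟩
  have hqa : MoreMor.IsIndQuasiAffineHom (Fam.sigMap r).left := by
    have : ∀ s, IsOpenImmersion (Fam.inc P s).left := (Fam.inc_openFamily P).isOpenImmersion
    refine isIndQuasiAffineHom_of_openCover _ (fun s => (P s).left) (fun s => (A₁ s).left)
      (fun s => (Fam.inc P s).left) (fun s => (Fam.inc A₁ s).left) (fun s => (r s).left)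
      (fun s => (Fam.isPullback_inc s).flip) (fun x => (Fam.inc_openFamily P).covers x)
      fun s => isIndQuasiAffineHom_copies _ _
  obtain ⟨A, υ, hA, q, sq, hq⟩ := hξ₀.exists_rep hqa (homFam_sep _) (homFam_desc _)
  refine ⟨A, υ.1, representsHom_of_isRep hA, fun s => ⟨R s, hR s, j s, M s, N s, hM s, hN s, e s, e' s, haff,
    het s, hj s, ?_⟩⟩
  have hinc : Fam.inc A₁ s ≫ Fam.sigMap r = r s ≫ Fam.inc P s := Fam.inc_sigMap s
  refine ⟨Fam.inc A₁ s ≫ q, ?_, fun φ => ?_⟩
  · have h1 := ((Fam.isPullback_inc (r := r) s).paste_vert sq).flip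
    rwa [show (Fam.inc P s).left ≫ (Fam.sig P).hom = (P s).hom from Over.w (Fam.inc P s), hPh] at h1
  · rw [← hξ' s φ]
    refine congrArg Subtype.val (a₁ := (homFam H G).res (Fam.inc _ φ ≫ Fam.inc A₁ s ≫ q) υ) ?_
    rw [(homFam H G).res_comp, (homFam H G).res_comp, hq, hξ₀inc]

end Groth.L25.HomScheme
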