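import Groth.Agent.L25.HomScheme.Sigma

/-!
# The functor of families of morphisms between two schemes over a base
-/

set_option autoImplicit false
universe u

open CategoryTheory CategoryTheory.Limits MonoidalCategory CartesianMonoidalCategory
open AlgebraicGeometry

set_option backward.isDefEq.respectTransparency.types false

noncomputable section

namespace Groth.L25.HomScheme

open Groth.L20.SchDesc

variable {S : Scheme.{u}}

/-- Families of morphisms `H ⟶ G` parametrised by schemes over `S`. -/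
def mor (H G : Over S) : Fam.{u, u} S where
  obj T := H ⊗ T ⟶ G
  res f φ := (H ◁ f) ≫ φ
  res_id φ := by rw [MonoidalCategory.whiskerLeft_id, Category.id_comp]
  res_comp f g φ := by rw [MonoidalCategory.whiskerLeft_comp, Category.assoc]

theorem mor_res (H G : Over S) {T T' : Over S} (f : T' ⟶ T) (φ : H ⊗ T ⟶ G) :
    (mor H G).res f φ = (H ◁ f) ≫ φ := rfl

/-- Whiskering is a base change. -/
theorem isPullback_whiskerLeft (H : Over S) {T T' : Over S} (f : T' ⟶ T) :
    IsPullback (H ◁ f).left (snd H T').left (snd H T).left f.left := by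
  have h1 : IsPullback (fst H T).left (snd H T).left H.hom T.hom := IsPullback.of_hasPullback H.hom T.hom
  have h2 : IsPullback (fst H T').left (snd H T').left H.hom T'.hom := IsPullback.of_hasPullback H.hom T'.hom
  refine IsPullback.of_right ?_ (congrArg (fun m => m.left) (whiskerLeft_snd H f)) h1
  rw [show (H ◁ f).left ≫ (fst H T).left = (fst H T').left from
    congrArg (fun m => m.left) (whiskerLeft_fst H f), Over.w f]
  exact h2

theorem whiskerLeft_openFamily (H : Over S) {T : Over S} {ι : Type u} {U : ι → Over S} {j : ∀ i, U i ⟶ T}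
    (h : IsOpenFamily U j) : IsOpenFamily (fun i => H ⊗ U i) (fun i => H ◁ j i) := by
  refine ⟨fun i => ?_, fun z => ?_⟩
  · exact MorphismProperty.of_isPullback (isPullback_whiskerLeft H (j i)).flip (h.isOpenImmersion i)
  · obtain ⟨i, w, hw⟩ := h.covers ((snd H T).left z)
    obtain ⟨y, hy, -⟩ := Scheme.Pullback.exists_preimage_pullback z w hw.symm
    exact ⟨i, (isPullback_whiskerLeft H (j i)).isoPullback.inv y, by
      rw [← Scheme.Hom.comp_apply, (isPullback_whiskerLeft H (j i)).isoPullback_inv_fst]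
      exact hy⟩

theorem mor_zarSep (H G : Over S) : (mor H G).ZarSep := fun _ _ _ _ h _ _ e =>
  (whiskerLeft_openFamily H h).hom_ext e

theorem whiskerLeft_split (H : Over S) {T Z : Over S} (g : Z ⟶ H ⊗ T) :
    g = lift (g ≫ fst H T) (𝟙 Z) ≫ (H ◁ (g ≫ snd H T)) := by
  rw [lift_whiskerLeft, Category.id_comp]
  apply CartesianMonoidalCategory.hom_ext
  · rw [lift_fst]
  · rw [lift_snd]

theorem comp_eq_of_res (H : Over S) {G : Over S} {T T' T₀ Z : Over S} (x : H ⊗ T ⟶ G) (y : H ⊗ T' ⟶ G)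
    (f : T ⟶ T₀) (f' : T' ⟶ T₀) (p : Z ⟶ H ⊗ T) (q : Z ⟶ H ⊗ T')
    (e : p ≫ (H ◁ f) = q ≫ (H ◁ f'))
    (hc : ∀ (a : Z ⟶ T) (b : Z ⟶ T'), a ≫ f = b ≫ f' → (H ◁ a) ≫ x = (H ◁ b) ≫ y) : p ≫ x = q ≫ y := by
  have h1 : p ≫ fst H T = q ≫ fst H T' := by
    simpa only [Category.assoc, whiskerLeft_fst] using congrArg (· ≫ fst H T₀) e
  have h2 : (p ≫ snd H T) ≫ f = (q ≫ snd H T') ≫ f' := by
    simpa only [Category.assoc, whiskerLeft_snd] using congrArg (· ≫ snd H T₀) e
  rw [whiskerLeft_split H p, whiskerLeft_split H q, Category.assoc, Category.assoc, h1,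
    hc _ _ h2]

theorem mor_zarGlue (H G : Over S) : (mor H G).ZarGlue := fun _ _ _ j h x hc =>
  (whiskerLeft_openFamily H h).exists_glue x fun i k Z p q e =>
    comp_eq_of_res H (x i) (x k) (j i) (j k) p q e fun a b hab => hc i k Z a b hab

theorem cov_whiskerLeft_fst (H P : Over S) [Cov P.hom] (T : Over S) : Cov (H ◁ fst T P).left :=
  have : Cov (fst T P).left := Cov.of_isPullback (IsPullback.of_hasPullback T.hom P.hom).flip
  Cov.of_isPullback (isPullback_whiskerLeft H (fst T P)).flip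

theorem mor_sep (H G P : Over S) [Cov P.hom] (T : Over S) : (mor H G).Sep (fst T P) := fun x y e => by
  have : Cov (H ◁ fst T P).left := cov_whiskerLeft_fst H P T
  have : Epi (H ◁ fst T P).left := Cov.epi _
  have : Epi (H ◁ fst T P) := Over.epi_of_epi_left _
  exact (cancel_epi (H ◁ fst T P)).1 e

theorem mor_desc (H G P : Over S) [Cov P.hom] (T : Over S) : (mor H G).Desc (fst T P) := by
  intro x hx
  have : Cov (H ◁ fst T P).left := cov_whiskerLeft_fst H P T
  obtain ⟨m, hm⟩ := Cov.exists_desc (p := (H ◁ fst T P).left) x.left fun {Z} g₁ g₂ hg => by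
    let p : Over.mk ((g₁ ≫ (H ◁ fst T P).left) ≫ (H ⊗ T).hom) ⟶ H ⊗ (T ⊗ P) := Over.homMk g₁
      ((congrArg (g₁ ≫ ·) (Over.w (H ◁ fst T P)).symm).trans (Category.assoc _ _ _).symm)
    let q : Over.mk ((g₁ ≫ (H ◁ fst T P).left) ≫ (H ⊗ T).hom) ⟶ H ⊗ (T ⊗ P) := Over.homMk g₂
      ((congrArg (g₂ ≫ ·) (Over.w (H ◁ fst T P)).symm).trans
        ((Category.assoc _ _ _).symm.trans (congrArg (· ≫ (H ⊗ T).hom) hg.symm)))
    exact congrArg (fun m => m.left) (comp_eq_of_res H x x (fst T P) (fst T P) p q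
      (Over.OverMorphism.ext hg) (hx _))
  have : Epi (H ◁ fst T P).left := Cov.epi _
  refine ⟨Over.homMk m ?_, Over.OverMorphism.ext hm⟩
  rw [← cancel_epi (H ◁ fst T P).left, ← Category.assoc, hm]
  exact (Over.w x).trans (Over.w (H ◁ fst T P)).symm

end Groth.L25.HomScheme
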