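import Groth.Agent.L20.SchDesc.Main
import Mathlib.CategoryTheory.Monoidal.Cartesian.Over

/-!
# Representing objects of functors of points descend along coverings
-/

set_option autoImplicit false
universe u v

open CategoryTheory CategoryTheory.Limits MonoidalCategory CartesianMonoidalCategory
open AlgebraicGeometry

set_option backward.isDefEq.respectTransparency.types false

noncomputable section

namespace Groth.L25.HomScheme

open Groth.L20.SchDesc

variable {S : Scheme.{u}}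

/-- A contravariant set valued functor on schemes over `S`. -/
structure Fam (S : Scheme.{u}) where
  obj : Over S → Type v
  res : ∀ {T T' : Over S}, (T' ⟶ T) → obj T → obj T'
  res_id : ∀ {T : Over S} (x : obj T), res (𝟙 T) x = x
  res_comp : ∀ {T T' T'' : Over S} (f : T'' ⟶ T') (g : T' ⟶ T) (x : obj T),
    res (f ≫ g) x = res f (res g x)

namespace Fam

variable (F : Fam.{u, v} S)

/-- `A` with `η` represents `F`. -/
def IsRep (A : Over S) (η : F.obj A) : Prop :=
  ∀ (T : Over S) (x : F.obj T), ∃! a : T ⟶ A, F.res a η = x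

/-- `A` over `P` with `ξ` represents `F` on schemes over `P`. -/
def IsRepOn {P A : Over S} (r : A ⟶ P) (ξ : F.obj A) : Prop :=
  ∀ (T : Over S) (p : T ⟶ P) (x : F.obj T), ∃! a : T ⟶ A, a ≫ r = p ∧ F.res a ξ = x

/-- Sections are determined along `q`. -/
def Sep {T T' : Over S} (q : T' ⟶ T) : Prop :=
  ∀ x y : F.obj T, F.res q x = F.res q y → x = y

/-- Compatible sections descend along `q`. -/
def Desc {T T' : Over S} (q : T' ⟶ T) : Prop :=
  ∀ x : F.obj T', (∀ (Z : Over S) (a b : Z ⟶ T'), a ≫ q = b ≫ q → F.res a x = F.res b x) →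
    ∃ y, F.res q y = x

variable {F}

theorem IsRep.ext {A : Over S} {η : F.obj A} (h : F.IsRep A η) {T : Over S} {a b : T ⟶ A}
    (e : F.res a η = F.res b η) : a = b :=
  (h T (F.res b η)).unique e rfl

theorem IsRepOn.ext {P A : Over S} {r : A ⟶ P} {ξ : F.obj A} (h : F.IsRepOn r ξ) {T : Over S}
    {a b : T ⟶ A} (er : a ≫ r = b ≫ r) (e : F.res a ξ = F.res b ξ) : a = b :=
  (h T (b ≫ r) (F.res b ξ)).unique ⟨er, e⟩ ⟨rfl, rfl⟩

/-- A representing object pulls back to representing objects over any `P`. -/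
theorem IsRep.isRepOn {A : Over S} {η : F.obj A} (h : F.IsRep A η) (P : Over S) :
    F.IsRepOn (snd A P) (F.res (fst A P) η) := by
  intro T p x
  obtain ⟨a, ha, hu⟩ := h T x
  refine ⟨lift a p, ⟨lift_snd a p, ?_⟩, fun b hb => ?_⟩
  · rw [← F.res_comp, lift_fst, ha]
  · apply CartesianMonoidalCategory.hom_ext
    · rw [lift_fst]
      exact hu _ ((F.res_comp _ _ _).trans hb.2)
    · rw [lift_snd]
      exact hb.1

/-- Representing objects over `P` are isomorphic. -/
theorem IsRepOn.exists_iso {P A B : Over S} {r : A ⟶ P} {ξ : F.obj A} (h : F.IsRepOn r ξ)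
    {r' : B ⟶ P} {ξ' : F.obj B} (h' : F.IsRepOn r' ξ') :
    ∃ e : A ≅ B, e.hom ≫ r' = r ∧ F.res e.hom ξ' = ξ := by
  obtain ⟨a, ⟨ha1, ha2⟩, -⟩ := h' A r ξ
  obtain ⟨b, ⟨hb1, hb2⟩, -⟩ := h B r' ξ'
  refine ⟨⟨a, b, h.ext ?_ ?_, h'.ext ?_ ?_⟩, ha1, ha2⟩
  · rw [Category.assoc, hb1, ha1, Category.id_comp]
  · rw [F.res_comp, hb2, ha2, F.res_id]
  · rw [Category.assoc, ha1, hb1, Category.id_comp]
  · rw [F.res_comp, ha2, hb2, F.res_id]

section Descend

variable {P A₁ : Over S} {r : A₁ ⟶ P} {ξ : F.obj A₁}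

theorem IsRepOn.exists_pre (h : F.IsRepOn r ξ) :
    ∃ D : Pre P.hom r.left, ∀ {T : Over S} (a b : T ⟶ A₁)
      (e : a.left ≫ r.left ≫ P.hom = (b ≫ r).left ≫ P.hom),
      D.act a.left (b ≫ r).left e = b.left ↔ F.res a ξ = F.res b ξ := by
  have hA : ∀ {T : Scheme.{u}} (v : T ⟶ A₁.left) (x : T ⟶ P.left), v ≫ r.left ≫ P.hom = x ≫ P.hom →
      v ≫ A₁.hom = x ≫ P.hom := fun v x e => by rw [← e, Over.w r]
  let pt : ∀ {T : Scheme.{u}} (v : T ⟶ A₁.left) (x : T ⟶ P.left) (e : v ≫ r.left ≫ P.hom = x ≫ P.hom),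
      Over.mk (x ≫ P.hom) ⟶ A₁ := fun v x e => Over.homMk v (hA v x e)
  let act₀ : ∀ {T : Scheme.{u}} (v : T ⟶ A₁.left) (x : T ⟶ P.left) (e : v ≫ r.left ≫ P.hom = x ≫ P.hom),
      Over.mk (x ≫ P.hom) ⟶ A₁ := fun v x e =>
    (h (Over.mk (x ≫ P.hom)) (Over.homMk x rfl) (F.res (pt v x e) ξ)).exists.choose
  have act₀_spec : ∀ {T : Scheme.{u}} (v : T ⟶ A₁.left) (x : T ⟶ P.left)
      (e : v ≫ r.left ≫ P.hom = x ≫ P.hom),
      act₀ v x e ≫ r = Over.homMk x rfl ∧ F.res (act₀ v x e) ξ = F.res (pt v x e) ξ := fun v x e =>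
    (h (Over.mk (x ≫ P.hom)) (Over.homMk x rfl) (F.res (pt v x e) ξ)).exists.choose_spec
  have key : ∀ {T : Over S} (a b : T ⟶ A₁) (v : T.left ⟶ A₁.left) (x : T.left ⟶ P.left)
      (e : v ≫ r.left ≫ P.hom = x ≫ P.hom), a.left = v → (b ≫ r).left = x →
      ((act₀ v x e).left = b.left ↔ F.res a ξ = F.res b ξ) := by
    intro T a b v x e ha hb
    subst ha hb
    let i : Over.mk ((b ≫ r).left ≫ P.hom) ⟶ T := Over.homMk (𝟙 T.left)
      ((Category.id_comp _).trans (Over.w (b ≫ r)).symm)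
    let j : T ⟶ Over.mk ((b ≫ r).left ≫ P.hom) := Over.homMk (𝟙 T.left)
      ((Category.id_comp _).trans (Over.w (b ≫ r)))
    have hpt : pt a.left (b ≫ r).left e = i ≫ a := Over.OverMorphism.ext (Category.id_comp _).symm
    constructor
    · intro heq
      have h1 : act₀ a.left (b ≫ r).left e = i ≫ b :=
        Over.OverMorphism.ext (heq.trans (Category.id_comp _).symm)
      have h2 := (act₀_spec a.left (b ≫ r).left e).2
      rw [h1, hpt] at h2
      have h3 := congrArg (F.res j) h2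
      have hji : j ≫ i = 𝟙 T := Over.OverMorphism.ext (Category.id_comp _)
      simp only [← F.res_comp, ← Category.assoc, hji, Category.id_comp] at h3
      exact h3.symm
    · intro heq
      have h1 : act₀ a.left (b ≫ r).left e = i ≫ b := by
        refine h.ext ?_ ?_
        · rw [(act₀_spec _ _ e).1]
          exact Over.OverMorphism.ext (Category.id_comp _).symm
        · rw [(act₀_spec _ _ e).2, hpt, F.res_comp, F.res_comp, heq]
      exact (congrArg (fun m => m.left) h1).trans (Category.id_comp _)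
  have hom' : ∀ {T : Scheme.{u}} (v : T ⟶ A₁.left) (x : T ⟶ P.left)
      (e : v ≫ r.left ≫ P.hom = x ≫ P.hom), (act₀ v x e).left ≫ r.left = x := fun v x e =>
    congrArg (fun m => m.left) (act₀_spec v x e).1
  let D : Pre P.hom r.left :=
    { act := fun v x e => (act₀ v x e).left
      hom := fun v x e => hom' v x e
      natural := fun {T T'} g v x e e' => by
        let g₀ : Over.mk ((g ≫ x) ≫ P.hom) ⟶ Over.mk (x ≫ P.hom) :=
          Over.homMk g (Category.assoc _ _ _).symm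
        refine (key (pt (g ≫ v) (g ≫ x) e') (g₀ ≫ act₀ v x e) (g ≫ v) (g ≫ x) e' rfl ?_).2 ?_
        · exact (Category.assoc _ _ _).trans (congrArg (g ≫ ·) (hom' v x e))
        · rw [F.res_comp, (act₀_spec v x e).2, ← F.res_comp]
          rfl
      self := fun v e =>
        (key (pt v (v ≫ r.left) e) (pt v (v ≫ r.left) e) v (v ≫ r.left) e rfl rfl).2 rfl
      comp := fun {T} v x y e e' e'' => by
        have hxy : x ≫ P.hom = y ≫ P.hom := e.symm.trans e''
        let j : Over.mk (y ≫ P.hom) ⟶ Over.mk (x ≫ P.hom) :=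
          Over.homMk (𝟙 T) ((Category.id_comp _).trans hxy)
        refine (key (j ≫ act₀ v x e) (act₀ v y e'') (act₀ v x e).left y e' (Category.id_comp _)
          (hom' v y e'')).2 ?_
        rw [(act₀_spec v y e'').2, F.res_comp, (act₀_spec v x e).2, ← F.res_comp]
        exact congrArg (F.res · ξ) (Over.OverMorphism.ext (Category.id_comp _)) }
  exact ⟨D, fun a b e => key a b a.left (b ≫ r).left e rfl rfl⟩

/-- A representing object over a covering descends. -/
theorem IsRepOn.exists_rep [Cov P.hom] (hA : MoreMor.IsIndQuasiAffineHom r.left) (h : F.IsRepOn r ξ)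
    (hsep : ∀ T : Over S, F.Sep (fst T P)) (hdesc : ∀ T : Over S, F.Desc (fst T P)) :
    ∃ (A : Over S) (η : F.obj A), F.IsRep A η ∧
      ∃ q : A₁ ⟶ A, IsPullback r.left q.left P.hom A.hom ∧ F.res q η = ξ := by
  obtain ⟨D, hD⟩ := h.exists_pre
  obtain ⟨d⟩ := effective_of_isIndQuasiAffineHom hA D
  let A : Over S := Over.mk d.a
  let q : A₁ ⟶ A := Over.homMk d.q (d.isPullback.w.symm.trans (Over.w r))
  have sq : IsPullback r.left q.left P.hom A.hom := d.isPullback
  have hrel : ∀ {T : Over S} (a b : T ⟶ A₁), a ≫ q = b ≫ q ↔ F.res a ξ = F.res b ξ := by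
    intro T a b
    have e : a.left ≫ r.left ≫ P.hom = (b ≫ r).left ≫ P.hom := by
      have h1 := Over.w (b ≫ r)
      rw [Over.w r, Over.w a, h1]
    rw [← hD a b e]
    constructor
    · exact fun hq => d.act_eq a.left b.left (congrArg (fun m => m.left) hq) e
    · intro hb
      refine Over.OverMorphism.ext ?_
      show a.left ≫ d.q = b.left ≫ d.q
      rw [← hb, d.comm _ _ e]
  obtain ⟨c, hcq, hcr⟩ : ∃ c : A ⊗ P ⟶ A₁, c ≫ q = fst A P ∧ c ≫ r = snd A P := by
    refine ⟨Over.homMk (sq.lift (snd A P).left (fst A P).left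
      ((Over.w (snd A P)).trans (Over.w (fst A P)).symm)) ?_,
      Over.OverMorphism.ext (sq.lift_snd _ _ _), Over.OverMorphism.ext (sq.lift_fst _ _ _)⟩
    rw [← Over.w r, sq.lift_fst_assoc]
    exact Over.w (snd A P)
  obtain ⟨η, hη⟩ := hdesc A (F.res c ξ) fun Z a b hab => by
    rw [← F.res_comp, ← F.res_comp, ← hrel, Category.assoc, Category.assoc, hcq, hab]
  have hqη : F.res q η = ξ := by
    have h1 : lift q r ≫ c = 𝟙 A₁ := Over.OverMorphism.ext (sq.hom_ext
      (congrArg (fun m => m.left) ((by rw [Category.assoc, hcr, lift_snd, Category.id_comp] :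
        (lift q r ≫ c) ≫ r = 𝟙 A₁ ≫ r)))
      (congrArg (fun m => m.left) ((by rw [Category.assoc, hcq, lift_fst, Category.id_comp] :
        (lift q r ≫ c) ≫ q = 𝟙 A₁ ≫ q))))
    have h2 := congrArg (F.res (lift q r)) hη
    rwa [← F.res_comp, ← F.res_comp, lift_fst, h1, F.res_id] at h2
  refine ⟨A, η, fun T x => ?_, q, sq, hqη⟩
  let q' := fst T P
  have : Cov q'.left := Cov.of_isPullback (IsPullback.of_hasPullback T.hom P.hom).flip
  have : Epi q'.left := Cov.epi q'.left
  have : Epi q' := Over.epi_of_epi_left _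
  obtain ⟨a', ⟨ha1, ha2⟩, -⟩ := h (T ⊗ P) (snd T P) (F.res q' x)
  have hconst : ∀ {Z : Scheme.{u}} (g₁ g₂ : Z ⟶ (T ⊗ P).left), g₁ ≫ q'.left = g₂ ≫ q'.left →
      g₁ ≫ (a' ≫ q).left = g₂ ≫ (a' ≫ q).left := by
    intro Z g₁ g₂ hg
    let G₁ : Over.mk ((g₁ ≫ q'.left) ≫ T.hom) ⟶ T ⊗ P := Over.homMk g₁
      ((congrArg (g₁ ≫ ·) (Over.w q').symm).trans (Category.assoc _ _ _).symm)
    let G₂ : Over.mk ((g₁ ≫ q'.left) ≫ T.hom) ⟶ T ⊗ P := Over.homMk g₂
      ((congrArg (g₂ ≫ ·) (Over.w q').symm).trans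
        ((Category.assoc _ _ _).symm.trans (congrArg (· ≫ T.hom) hg.symm)))
    have hG : G₁ ≫ q' = G₂ ≫ q' := Over.OverMorphism.ext hg
    have h1 : (G₁ ≫ a') ≫ q = (G₂ ≫ a') ≫ q := by
      rw [hrel, F.res_comp, F.res_comp, ha2, ← F.res_comp, ← F.res_comp, hG]
    exact (Category.assoc _ _ _).symm.trans ((congrArg (fun m => m.left) h1).trans (Category.assoc _ _ _))
  obtain ⟨a, ha⟩ := Cov.exists_desc (p := q'.left) (a' ≫ q).left hconst
  let a₀ : T ⟶ A := Over.homMk a (by
    rw [← cancel_epi q'.left, ← Category.assoc, ha]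
    exact (Over.w (a' ≫ q)).trans (Over.w q').symm)
  have ha₀ : q' ≫ a₀ = a' ≫ q := Over.OverMorphism.ext ha
  refine ⟨a₀, hsep T _ _ ?_, fun b hb => ?_⟩
  · show F.res q' (F.res a₀ η) = F.res q' x
    rw [← F.res_comp, ha₀, F.res_comp, hqη, ha2]
  · rw [← cancel_epi q', ha₀]
    have h1 : lift (q' ≫ b) (snd T P) ≫ c = a' := by
      refine h.ext ?_ ?_
      · rw [Category.assoc, hcr, lift_snd, ha1]
      · rw [F.res_comp, ← hη, ← F.res_comp, lift_fst, F.res_comp, hb, ha2]
    rw [← h1, Category.assoc, hcq, lift_fst]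

end Descend

end Fam

end Groth.L25.HomScheme
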