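import Groth.Agent.L25.Locus.Normalizer
import Groth.Agent.L23.QFDescent

/-!
# Groups of multiplicative type are flat
-/

set_option autoImplicit false
universe u

open CategoryTheory CategoryTheory.Limits MonoidalCategory CartesianMonoidalCategory
open AlgebraicGeometry

set_option backward.isDefEq.respectTransparency.types false

noncomputable section

namespace Groth.L25.HomScheme

variable {S : Scheme.{u}}

theorem flat_of_multType {H : Over S} [GrpObj H]
    (hH : TwC.Locally S TwC.Topology.fpqc (fun S' f => ∃ (M : Type) (_ : AddCommGroup M),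
      Nonempty (Grp.mk (Red.bc f H) ≅ Grp.mk (Red.DS S' M)))) :
    Flat H.hom := by
  obtain ⟨S', f, hflat, hsurj, hqc, hloc⟩ := hH
  refine FpqcLocal.of_fpqc (P := @Flat) H.hom (𝟙 S) f hqc fun s => ?_
  obtain ⟨W, hsW, M, instM, ⟨e⟩⟩ := hloc s
  refine ⟨W, hsW, FpqcLocal.bc_comp H.hom (pullback.snd (𝟙 S) (W.ι ≫ f)) (W.ι ≫ f) _
    (by rw [← pullback.condition, Category.comp_id]) ?_⟩
  have : IsIso e.hom.hom.hom :=
    ⟨e.inv.hom.hom, congr($(e.hom_inv_id).hom.hom), congr($(e.inv_hom_id).hom.hom)⟩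
  have : IsIso e.hom.hom.hom.left := inferInstanceAs (IsIso ((Over.forget _).map e.hom.hom.hom))
  have h1 : Flat (Red.diag (ULift.{u} ℤ) M).hom := by
    show Flat (Spec.map (CommRingCat.ofHom
      (algebraMap (ULift.{u} ℤ) (MonoidAlgebra (ULift.{u} ℤ) (Multiplicative M)))))
    rw [HasRingHomProperty.Spec_iff (P := @Flat), CommRingCat.hom_ofHom, RingHom.flat_algebraMap_iff]
    infer_instance
  have h2 : Flat (Red.DS W.toScheme M).hom := MorphismProperty.pullback_snd _ _ h1
  show Flat (Red.bc (W.ι ≫ f) H).hom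
  rw [← Over.w e.hom.hom.hom]
  infer_instance

theorem flat_of_multTypeFT {H : Over S} [GrpObj H] (hH : SGA3x.IsMultTypeFT H) : Flat H.hom :=
  flat_of_multType (Locus.locally_of_multTypeFT hH)

end Groth.L25.HomScheme
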