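import Groth.Agent.L25.HomScheme.Family
import Groth.Agent.L13.WeilRes.Alg
import Groth.Agent.L09.Artin.WeilFP
import Mathlib.AlgebraicGeometry.Pullbacks
import Mathlib.AlgebraicGeometry.Morphisms.Flat
import Mathlib.AlgebraicGeometry.Morphisms.Finite

/-!
# Morphisms from a finite locally free scheme into an affine scheme are representable
-/

set_option autoImplicit false
universe u

open CategoryTheory CategoryTheory.Limits MonoidalCategory CartesianMonoidalCategory
open AlgebraicGeometry TensorProduct

set_option backward.isDefEq.respectTransparency.types false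

noncomputable section

namespace Groth.L25.HomScheme

open Groth.L13.WeilRes (W univ toHom homEquiv map_toHom_univ hom_ext)

variable {S : Scheme.{u}}

/-- The spectrum of the structure map of an algebra. -/
abbrev specAlg (R B : Type u) [CommRing R] [CommRing B] [Algebra R B] :
    Spec (CommRingCat.of B) ⟶ Spec (CommRingCat.of R) :=
  Spec.map (CommRingCat.ofHom (algebraMap R B))

/-- Over an affine scheme an affine morphism is a spectrum. -/
theorem exists_spec_chart {X : Scheme.{u}} (f : X ⟶ S) [IsAffineHom f] {R : Type u} [CommRing R]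
    (j : Spec (CommRingCat.of R) ⟶ S) :
    ∃ (B : Type u) (_ : CommRing B) (_ : Algebra R B) (g : Spec (CommRingCat.of B) ⟶ X),
      IsPullback g (specAlg R B) f j := by
  have : IsAffine (pullback f j) := isAffine_of_isAffineHom (pullback.snd f j)
  obtain ⟨φ, hφ⟩ := Spec.map_surjective ((pullback f j).isoSpec.inv ≫ pullback.snd f j)
  refine ⟨Γ(pullback f j, ⊤), inferInstance, φ.hom.toAlgebra, (pullback f j).isoSpec.inv ≫ pullback.fst f j,
    IsPullback.of_iso (IsPullback.of_hasPullback f j) (pullback f j).isoSpec (Iso.refl _) (Iso.refl _)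
      (Iso.refl _) ?_ ?_ (by simp) (by simp)⟩
  · simp
  · show pullback.snd f j ≫ 𝟙 _ = (pullback f j).isoSpec.hom ≫ Spec.map φ
    rw [Category.comp_id, hφ, Iso.hom_inv_id_assoc]

section Chart

variable {R B AG : Type u} [CommRing R] [CommRing B] [Algebra R B] [CommRing AG] [Algebra R AG]
  {j : Spec (CommRingCat.of R) ⟶ S} {H G : Over S}
  {gH : Spec (CommRingCat.of B) ⟶ H.left} (hH : IsPullback gH (specAlg R B) H.hom j)
  {gG : Spec (CommRingCat.of AG) ⟶ G.left} (hG : IsPullback gG (specAlg R AG) G.hom j)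

/-- An algebra as a scheme over `S`. -/
abbrev ov (j : Spec (CommRingCat.of R) ⟶ S) (C : Type u) [CommRing C] [Algebra R C] : Over S :=
  Over.mk (specAlg R C ≫ j)

include hH in
theorem isPullback_tensor (C : Type u) [CommRing C] [Algebra R C] :
    IsPullback (Spec.map (CommRingCat.ofHom (Algebra.TensorProduct.includeLeftRingHom : B →+* B ⊗[R] C)) ≫ gH)
      (Spec.map (CommRingCat.ofHom (Algebra.TensorProduct.includeRight : C →ₐ[R] B ⊗[R] C).toRingHom))
      H.hom (specAlg R C ≫ j) := by
  exact ((isPullback_SpecMap_of_isPushout _ _ _ _ (CommRingCat.isPushout_tensorProduct R B C)).flip.paste_vert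
    hH.flip).flip

/-- The chart of a product with an affine test scheme. -/
def tens (C : Type u) [CommRing C] [Algebra R C] :
    Spec (CommRingCat.of (B ⊗[R] C)) ≅ (H ⊗ ov j C).left :=
  (isPullback_tensor hH C).isoPullback

include hH in
theorem tens_fst (C : Type u) [CommRing C] [Algebra R C] :
    (tens hH C).hom ≫ (fst H (ov j C)).left =
      Spec.map (CommRingCat.ofHom (Algebra.TensorProduct.includeLeftRingHom : B →+* B ⊗[R] C)) ≫ gH :=
  (isPullback_tensor hH C).isoPullback_hom_fst

include hH in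
theorem tens_snd (C : Type u) [CommRing C] [Algebra R C] :
    (tens hH C).hom ≫ (snd H (ov j C)).left =
      Spec.map (CommRingCat.ofHom (Algebra.TensorProduct.includeRight : C →ₐ[R] B ⊗[R] C).toRingHom) :=
  (isPullback_tensor hH C).isoPullback_hom_snd

include hH in
theorem tens_hom (C : Type u) [CommRing C] [Algebra R C] :
    (tens hH C).hom ≫ (H ⊗ ov j C).hom = specAlg R (B ⊗[R] C) ≫ j := by
  rw [← Over.w (snd H (ov j C)), ← Category.assoc, tens_snd]
  show _ ≫ specAlg R C ≫ j = _
  rw [← Category.assoc, ← Spec.map_comp, ← CommRingCat.ofHom_comp]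
  exact congrArg (fun φ : R →+* B ⊗[R] C => Spec.map (CommRingCat.ofHom φ) ≫ j)
    (Algebra.TensorProduct.includeRight : C →ₐ[R] B ⊗[R] C).comp_algebraMap

/-- A map of algebras as a map over `S`. -/
def ovMap (j : Spec (CommRingCat.of R) ⟶ S) {C D : Type u} [CommRing C] [Algebra R C] [CommRing D]
    [Algebra R D] (g : D →ₐ[R] C) : ov j C ⟶ ov j D :=
  Over.homMk (Spec.map (CommRingCat.ofHom g.toRingHom)) (by
    show Spec.map _ ≫ Spec.map _ ≫ j = Spec.map _ ≫ j
    rw [← Category.assoc, ← Spec.map_comp, ← CommRingCat.ofHom_comp]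
    exact congrArg (fun φ : R →+* C => Spec.map (CommRingCat.ofHom φ) ≫ j) g.comp_algebraMap)

include hH in
theorem tens_natural {C D : Type u} [CommRing C] [Algebra R C] [CommRing D] [Algebra R D] (g : D →ₐ[R] C) :
    (tens hH C).hom ≫ (H ◁ ovMap j g).left =
      Spec.map (CommRingCat.ofHom (Algebra.TensorProduct.map (AlgHom.id B B) g).toRingHom) ≫ (tens hH D).hom := by
  apply pullback.hom_ext
  · show ((tens hH C).hom ≫ (H ◁ ovMap j g).left) ≫ (fst H (ov j D)).left =
      (_ ≫ (tens hH D).hom) ≫ (fst H (ov j D)).left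
    rw [Category.assoc, Category.assoc, ← Over.comp_left, whiskerLeft_fst, tens_fst, tens_fst,
      ← Category.assoc, ← Spec.map_comp, ← CommRingCat.ofHom_comp]
    congr 3
    ext b
    show b ⊗ₜ[R] (1 : C) = Algebra.TensorProduct.map (AlgHom.id B B) g (b ⊗ₜ 1)
    simp
  · show ((tens hH C).hom ≫ (H ◁ ovMap j g).left) ≫ (snd H (ov j D)).left =
      (_ ≫ (tens hH D).hom) ≫ (snd H (ov j D)).left
    rw [Category.assoc, Category.assoc, ← Over.comp_left, whiskerLeft_snd, Over.comp_left, tens_snd,
      ← Category.assoc, tens_snd]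
    show Spec.map _ ≫ Spec.map _ = Spec.map _ ≫ Spec.map _
    rw [← Spec.map_comp, ← Spec.map_comp]
    congr 1

include hG in
/-- The family attached to an algebra map. -/
def famOf {C : Type u} [CommRing C] [Algebra R C] (ψ : AG →ₐ[R] B ⊗[R] C) : H ⊗ ov j C ⟶ G :=
  Over.homMk ((tens hH C).inv ≫ Spec.map (CommRingCat.ofHom ψ.toRingHom) ≫ gG) (by
    simp only [Category.assoc]
    rw [Iso.inv_comp_eq, hG.w, tens_hom, ← Category.assoc, ← Spec.map_comp,
      ← CommRingCat.ofHom_comp]
    exact congrArg (fun φ : R →+* B ⊗[R] C => Spec.map (CommRingCat.ofHom φ) ≫ j) ψ.comp_algebraMap)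

include hG in
theorem famOf_bijective (C : Type u) [CommRing C] [Algebra R C] :
    Function.Bijective (famOf hH hG (C := C)) := by
  constructor
  · intro ψ ψ' h
    have h1 := congrArg (fun m => m.left) h
    replace h1 : Spec.map (CommRingCat.ofHom ψ.toRingHom) ≫ gG = Spec.map (CommRingCat.ofHom ψ'.toRingHom) ≫ gG :=
      (cancel_epi (tens hH C).inv).1 h1
    have h2 := hG.hom_ext h1 (by
      rw [← Spec.map_comp, ← Spec.map_comp, ← CommRingCat.ofHom_comp, ← CommRingCat.ofHom_comp]
      congr 2
      exact ψ.comp_algebraMap.trans ψ'.comp_algebraMap.symm)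
    exact AlgHom.ext fun a => congrArg (fun q : CommRingCat.of AG ⟶ CommRingCat.of (B ⊗[R] C) => q.hom a)
      (Spec.map_injective h2)
  · intro φ
    obtain ⟨ψ, hψ⟩ := Spec.map_surjective (hG.lift ((tens hH C).hom ≫ φ.left) (specAlg R (B ⊗[R] C))
      (by rw [Category.assoc, Over.w φ, tens_hom]))
    have hc : CommRingCat.ofHom (algebraMap R AG) ≫ ψ = CommRingCat.ofHom (algebraMap R (B ⊗[R] C)) := by
      apply Spec.map_injective
      rw [Spec.map_comp, hψ]
      exact hG.lift_snd _ _ _
    refine ⟨{ ψ.hom with commutes' := fun b => congrArg (fun q => q.hom b) hc }, Over.OverMorphism.ext ?_⟩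
    show (tens hH C).inv ≫ Spec.map ψ ≫ gG = φ.left
    rw [hψ, hG.lift_fst, Iso.inv_hom_id_assoc]

include hG in
theorem whisker_famOf {C D : Type u} [CommRing C] [Algebra R C] [CommRing D] [Algebra R D] (g : D →ₐ[R] C)
    (ψ : AG →ₐ[R] B ⊗[R] D) :
    (H ◁ ovMap j g) ≫ famOf hH hG ψ =
      famOf hH hG (((Algebra.TensorProduct.map (AlgHom.id B B) g).restrictScalars R).comp ψ) := by
  apply Over.OverMorphism.ext
  show (H ◁ ovMap j g).left ≫ (tens hH D).inv ≫ Spec.map (CommRingCat.ofHom ψ.toRingHom) ≫ gG =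
    (tens hH C).inv ≫ Spec.map (CommRingCat.ofHom
      (((Algebra.TensorProduct.map (AlgHom.id B B) g).restrictScalars R).comp ψ).toRingHom) ≫ gG
  rw [Iso.eq_inv_comp, ← Category.assoc (tens hH C).hom, tens_natural hH g, Category.assoc,
    Iso.hom_inv_id_assoc, ← Category.assoc, ← Spec.map_comp]
  rfl

variable [Module.Finite R B] [Module.Projective R B]

include hH hG in
/-- Over an affine chart the functor of morphisms is the Weil restriction. -/
theorem exists_isRepOn_chart :
    ∃ (A : Over S) (r : A ⟶ Over.mk j) (ξ : H ⊗ A ⟶ G), (mor H G).IsRepOn r ξ ∧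
      IsAffineHom r.left ∧ (Algebra.FiniteType R AG → LocallyOfFiniteType r.left) ∧
      (Algebra.FinitePresentation R AG → LocallyOfFinitePresentation r.left) := by
  let WW : Type u := W R B (B ⊗[R] AG)
  let r : ov j WW ⟶ Over.mk j := Over.homMk (specAlg R WW) rfl
  let ψu : AG →ₐ[R] B ⊗[R] WW := (AlgHom.liftEquiv R B AG (B ⊗[R] WW)).symm (univ R B (B ⊗[R] AG))
  refine ⟨ov j WW, r, famOf hH hG ψu, Fam.IsRepOn.of_affine (mor_zarSep H G) ?_, ?_, ?_, ?_⟩
  · intro T _ p x
    obtain ⟨φ, hφ⟩ := Spec.map_surjective (T.left.isoSpec.inv ≫ p.left)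
    let C : Type u := Γ(T.left, ⊤)
    let : Algebra R C := φ.hom.toAlgebra
    let e : ov j C ≅ T := Over.isoMk T.left.isoSpec.symm (by
      show T.left.isoSpec.inv ≫ T.hom = Spec.map φ ≫ j
      rw [hφ, Category.assoc]
      exact congrArg (T.left.isoSpec.inv ≫ ·) (Over.w p).symm)
    have hep : e.hom ≫ p = Over.homMk (specAlg R C) rfl := Over.OverMorphism.ext hφ.symm
    have hmap : ∀ g : WW →ₐ[R] C, ovMap j g ≫ r = Over.homMk (specAlg R C) rfl := fun g =>
      Over.OverMorphism.ext ((Spec.map_comp _ _).symm.trans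
        (congrArg (fun φ : R →+* C => Spec.map (CommRingCat.ofHom φ)) g.comp_algebraMap))
    have key : ∀ g : WW →ₐ[R] C, (mor H G).res (ovMap j g) (famOf hH hG ψu) =
        famOf hH hG ((AlgHom.liftEquiv R B AG (B ⊗[R] C)).symm (homEquiv R B (B ⊗[R] AG) C g)) := fun g =>
      (whisker_famOf hH hG g ψu).trans (congrArg (famOf hH hG) (AlgHom.ext fun a => rfl))
    obtain ⟨ψ, hψ⟩ := (famOf_bijective hH hG C).2 ((H ◁ e.hom) ≫ x)
    let g₀ : WW →ₐ[R] C := (homEquiv R B (B ⊗[R] AG) C).symm (AlgHom.liftEquiv R B AG (B ⊗[R] C) ψ)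
    refine ⟨e.inv ≫ ovMap j g₀, ⟨?_, ?_⟩, ?_⟩
    · rw [Category.assoc, hmap, ← hep, Iso.inv_hom_id_assoc]
    · rw [(mor H G).res_comp, key g₀]
      simp only [g₀, Equiv.apply_symm_apply, Equiv.symm_apply_apply, hψ, mor_res]
      rw [← Category.assoc, ← MonoidalCategory.whiskerLeft_comp, e.inv_hom_id,
        MonoidalCategory.whiskerLeft_id, Category.id_comp]
    · rintro a ⟨ha₁, ha₂⟩
      have h1 : (e.hom ≫ a).left ≫ specAlg R WW = specAlg R C :=
        congrArg (fun m => m.left) (show (e.hom ≫ a) ≫ r = Over.homMk (specAlg R C) rfl by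
          rw [Category.assoc, ha₁, hep])
      obtain ⟨γ, hγ⟩ := Spec.map_surjective (e.hom ≫ a).left
      have hc : CommRingCat.ofHom (algebraMap R WW) ≫ γ = CommRingCat.ofHom (algebraMap R C) := by
        apply Spec.map_injective
        rw [Spec.map_comp, hγ]
        exact h1
      let g : WW →ₐ[R] C := { γ.hom with commutes' := fun b => congrArg (fun q => q.hom b) hc }
      have hg : ovMap j g = e.hom ≫ a := Over.OverMorphism.ext hγ
      have h2 : famOf hH hG ψ = famOf hH hG
          ((AlgHom.liftEquiv R B AG (B ⊗[R] C)).symm (homEquiv R B (B ⊗[R] AG) C g)) := by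
        rw [← key g, hg, (mor H G).res_comp, ha₂, hψ, mor_res]
      have h3 : g = g₀ := by
        simp only [g₀, (famOf_bijective hH hG C).1 h2, Equiv.apply_symm_apply, Equiv.symm_apply_apply]
      rw [← h3, hg, Iso.inv_hom_id_assoc]
  · exact inferInstanceAs (IsAffineHom (specAlg R WW))
  · intro _
    have : Algebra.FiniteType R WW := Groth.L13.WeilRes.finiteType R B (B ⊗[R] AG)
    exact (HasRingHomProperty.Spec_iff (P := @LocallyOfFiniteType)).2
      (RingHom.finiteType_algebraMap.2 inferInstance)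
  · intro _
    have : Algebra.FinitePresentation R WW := Groth.L09.Artin.weilRes_finitePresentation R B (B ⊗[R] AG)
    exact (HasRingHomProperty.Spec_iff (P := @LocallyOfFinitePresentation)).2
      (RingHom.finitePresentation_algebraMap.2 inferInstance)

end Chart

/-- Morphisms from a finite locally free scheme into an affine one are representable by an affine scheme. -/
theorem exists_weil (H G : Over S) [IsFinite H.hom] [Flat H.hom] [LocallyOfFinitePresentation H.hom]
    [IsAffineHom G.hom] :
    ∃ (A : Over S) (υ : H ⊗ A ⟶ G), (mor H G).IsRep A υ ∧ IsAffineHom A.hom ∧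
      (LocallyOfFiniteType G.hom → LocallyOfFiniteType A.hom) ∧
      (LocallyOfFinitePresentation G.hom → LocallyOfFinitePresentation A.hom) := by
  have hloc : ∀ U : S.affineOpens, ∃ (A : Over S) (r : A ⟶ Over.mk U.2.fromSpec) (ξ : H ⊗ A ⟶ G),
      (mor H G).IsRepOn r ξ ∧ IsAffineHom r.left ∧
      (LocallyOfFiniteType G.hom → LocallyOfFiniteType r.left) ∧
      (LocallyOfFinitePresentation G.hom → LocallyOfFinitePresentation r.left) := by
    intro U
    let R : Type u := Γ(S, (U : S.Opens))
    obtain ⟨B, _, _, gH, hH⟩ := exists_spec_chart H.hom (R := R) U.2.fromSpec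
    obtain ⟨AG, _, _, gG, hG⟩ := exists_spec_chart G.hom (R := R) U.2.fromSpec
    have hfin : IsFinite (specAlg R B) := MorphismProperty.of_isPullback hH inferInstance
    have hfl : Flat (specAlg R B) := MorphismProperty.of_isPullback hH inferInstance
    have hfp : LocallyOfFinitePresentation (specAlg R B) := MorphismProperty.of_isPullback hH inferInstance
    have : Module.Finite R B := RingHom.finite_algebraMap.1 ((IsFinite.SpecMap_iff _).1 hfin)
    have : Module.Flat R B := RingHom.flat_algebraMap_iff.1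
      ((HasRingHomProperty.Spec_iff (P := @Flat)).1 hfl)
    have : Algebra.FinitePresentation R B := RingHom.finitePresentation_algebraMap.1
      ((HasRingHomProperty.Spec_iff (P := @LocallyOfFinitePresentation)).1 hfp)
    have : Module.FinitePresentation R B := Module.FinitePresentation.of_finite_of_finitePresentation R B
    have : Module.Projective R B := Module.Flat.projective_of_finitePresentation
    obtain ⟨A, r, ξ, h, ha, hft, hfp'⟩ := exists_isRepOn_chart hH hG
    refine ⟨A, r, ξ, h, ha, fun hlft => hft ?_, fun hlfp => hfp' ?_⟩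
    · exact RingHom.finiteType_algebraMap.1 ((HasRingHomProperty.Spec_iff (P := @LocallyOfFiniteType)).1
        (MorphismProperty.of_isPullback hG hlft))
    · exact RingHom.finitePresentation_algebraMap.1
        ((HasRingHomProperty.Spec_iff (P := @LocallyOfFinitePresentation)).1
          (MorphismProperty.of_isPullback hG hlfp))
  choose A r ξ h ha hft hfp using hloc
  have : ∀ U : S.affineOpens, IsOpenImmersion (Over.mk U.2.fromSpec).hom := fun U =>
    inferInstanceAs (IsOpenImmersion U.2.fromSpec)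
  obtain ⟨A₀, υ, hrep, hQ⟩ := Fam.exists_rep_openFamily (mor_zarSep H G) (mor_zarGlue H G)
    (fun P _ T => mor_sep H G P T) (fun P _ T => mor_desc H G P T)
    (fun U : S.affineOpens => Over.mk U.2.fromSpec)
    (fun s => by
      obtain ⟨U, hU, hs, -⟩ := exists_isAffineOpen_mem_and_subset (X := S) (x := s) (U := ⊤) trivial
      exact ⟨⟨U, hU⟩, hU.range_fromSpec.symm ▸ hs⟩)
    r ξ h ha
  exact ⟨A₀, υ, hrep, hQ _ ha, fun hl => hQ _ fun i => hft i hl, fun hl => hQ _ fun i => hfp i hl⟩

end Groth.L25.HomScheme
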