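import Groth.Agent.L25.HomScheme.Weil
import Groth.Agent.L20.FibreScheme
import Groth.Prelude.Def_AutFam
import Mathlib.AlgebraicGeometry.Morphisms.Separated

/-!
# The scheme of homomorphisms out of a finite locally free group into an affine group
-/

set_option autoImplicit false
universe u

open CategoryTheory CategoryTheory.Limits MonoidalCategory CartesianMonoidalCategory
open AlgebraicGeometry
open scoped MonObj

set_option backward.isDefEq.respectTransparency.types false

noncomputable section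

namespace Groth.L25.HomScheme

variable {S : Scheme.{u}} {H G : Over S} [GrpObj H] [GrpObj G]

/-- The value of a family at the product of two arguments. -/
def mulArg {T : Over S} (φ : H ⊗ T ⟶ G) : (H ⊗ H) ⊗ T ⟶ G :=
  lift ((fst (H ⊗ H) T ≫ fst H H) * (fst (H ⊗ H) T ≫ snd H H)) (snd (H ⊗ H) T) ≫ φ

/-- The product of the values of a family at two arguments. -/
def mulVal {T : Over S} (φ : H ⊗ T ⟶ G) : (H ⊗ H) ⊗ T ⟶ G :=
  (lift (fst (H ⊗ H) T ≫ fst H H) (snd (H ⊗ H) T) ≫ φ) *
    (lift (fst (H ⊗ H) T ≫ snd H H) (snd (H ⊗ H) T) ≫ φ)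

theorem isHomFamily_iff {T : Over S} (φ : H ⊗ T ⟶ G) :
    AutFam.IsHomFamily H G φ ↔ mulArg φ = mulVal φ := by
  constructor
  · exact fun h => h _ _ _ _
  · intro h X g₁ g₂ t
    have h1 := congrArg (lift (lift g₁ g₂) t ≫ ·) h
    simpa only [mulArg, mulVal, MonObj.comp_mul, comp_lift_assoc, lift_fst_assoc, lift_fst, lift_snd] using h1

omit [GrpObj G] in
theorem mulArg_res {T T' : Over S} (f : T' ⟶ T) (φ : H ⊗ T ⟶ G) :
    mulArg ((H ◁ f) ≫ φ) = ((H ⊗ H) ◁ f) ≫ mulArg φ := by
  simp only [mulArg, comp_lift_assoc, lift_whiskerLeft_assoc, MonObj.comp_mul, whiskerLeft_fst_assoc,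
    whiskerLeft_snd]

theorem mulVal_res {T T' : Over S} (f : T' ⟶ T) (φ : H ⊗ T ⟶ G) :
    mulVal ((H ◁ f) ≫ φ) = ((H ⊗ H) ◁ f) ≫ mulVal φ := by
  simp only [mulVal, comp_lift_assoc, lift_whiskerLeft_assoc, MonObj.comp_mul, whiskerLeft_fst_assoc,
    whiskerLeft_snd]

/-- Homomorphisms from a finite locally free group into an affine group are representable by an affine scheme. -/
theorem exists_representsHom (H G : Over S) [GrpObj H] [GrpObj G] [IsFinite H.hom] [Flat H.hom]
    [LocallyOfFinitePresentation H.hom] [IsAffineHom G.hom] :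
    ∃ (A : Over S) (υ : H ⊗ A ⟶ G), AutFam.RepresentsHom H G A υ ∧ IsAffineHom A.hom ∧
      (LocallyOfFiniteType G.hom → LocallyOfFiniteType A.hom) ∧
      (LocallyOfFinitePresentation G.hom → LocallyOfFinitePresentation A.hom) := by
  obtain ⟨W, υW, hW, hWa, hWft, hWfp⟩ := exists_weil H G
  have : IsFinite (H ⊗ H).hom := inferInstanceAs (IsFinite (pullback.fst H.hom H.hom ≫ H.hom))
  have : Flat (H ⊗ H).hom := inferInstanceAs (Flat (pullback.fst H.hom H.hom ≫ H.hom))
  have : LocallyOfFinitePresentation (H ⊗ H).hom :=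
    inferInstanceAs (LocallyOfFinitePresentation (pullback.fst H.hom H.hom ≫ H.hom))
  obtain ⟨W₂, υ₂, hW₂, hW₂a, hW₂ft, -⟩ := exists_weil (H ⊗ H) G
  obtain ⟨a₁, ha₁, -⟩ := hW₂ W (mulArg υW)
  obtain ⟨a₂, ha₂, -⟩ := hW₂ W (mulVal υW)
  have hiff : ∀ {T : Over S} (a : T ⟶ W),
      AutFam.IsHomFamily H G ((H ◁ a) ≫ υW) ↔ a ≫ a₁ = a ≫ a₂ := by
    intro T a
    rw [isHomFamily_iff, mulArg_res, mulVal_res, ← ha₁, ← ha₂]
    refine ⟨fun h => hW₂.ext (((mor (H ⊗ H) G).res_comp a a₁ υ₂).trans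
      (h.trans ((mor (H ⊗ H) G).res_comp a a₂ υ₂).symm)), fun h => ?_⟩
    exact ((mor (H ⊗ H) G).res_comp a a₁ υ₂).symm.trans
      ((congrArg (fun b => (mor (H ⊗ H) G).res b υ₂) h).trans ((mor (H ⊗ H) G).res_comp a a₂ υ₂))
  let d : W₂ ⟶ W₂ ⊗ W₂ := lift (𝟙 W₂) (𝟙 W₂)
  let c : W ⟶ W₂ ⊗ W₂ := lift a₁ a₂
  let A : Over S := Over.mk (pullback.fst c.left d.left ≫ W.hom)
  let i : A ⟶ W := Over.homMk (pullback.fst c.left d.left) rfl
  have hd : IsClosedImmersion d.left := IsSeparated.isClosedImmersion_diagonal (f := W₂.hom)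
  have hi : IsClosedImmersion i.left := MorphismProperty.pullback_fst c.left d.left hd
  have : Mono i := Over.mono_of_mono_left _
  have hA : ∀ {T : Over S} (a : T ⟶ W), a ≫ a₁ = a ≫ a₂ ↔ ∃ b : T ⟶ A, b ≫ i = a := by
    intro T a
    constructor
    · intro e
      have e' : (a ≫ c).left = ((a ≫ a₁) ≫ d).left := by
        simp only [c, d, comp_lift, Category.comp_id, e]
      exact ⟨Over.homMk (pullback.lift a.left (a ≫ a₁).left e') (by
          show pullback.lift _ _ _ ≫ pullback.fst c.left d.left ≫ W.hom = _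
          rw [pullback.lift_fst_assoc, Over.w a]),
        Over.OverMorphism.ext (pullback.lift_fst _ _ _)⟩
    · rintro ⟨b, rfl⟩
      let w : A ⟶ W₂ := Over.homMk (pullback.snd c.left d.left) (by
        show pullback.snd c.left d.left ≫ W₂.hom = pullback.fst c.left d.left ≫ W.hom
        rw [← Over.w c, ← Over.w d, pullback.condition_assoc])
      have e : i ≫ c = w ≫ d := Over.OverMorphism.ext pullback.condition
      simp only [c, d, comp_lift, Category.comp_id] at e
      have e1 : i ≫ a₁ = w := by simpa only [lift_fst] using congrArg (· ≫ fst W₂ W₂) e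
      have e2 : i ≫ a₂ = w := by simpa only [lift_snd] using congrArg (· ≫ snd W₂ W₂) e
      rw [Category.assoc, Category.assoc, e1, e2]
  refine ⟨A, (H ◁ i) ≫ υW, ⟨(hiff i).2 ((hA i).2 ⟨𝟙 A, Category.id_comp _⟩), fun T φ hφ => ?_⟩, ?_, ?_, ?_⟩
  · obtain ⟨a, ha, hu⟩ := hW T φ
    obtain ⟨b, rfl⟩ := (hA a).1 ((hiff a).1 (by rw [show (H ◁ a) ≫ υW = φ from ha]; exact hφ))
    refine ⟨b, ?_, fun b' hb' => ?_⟩
    · show (H ◁ b) ≫ (H ◁ i) ≫ υW = φ
      exact ((mor H G).res_comp b i υW).symm.trans ha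
    · rw [← cancel_mono i]
      refine hu _ ?_
      exact ((mor H G).res_comp b' i υW).trans hb'
  · show IsAffineHom (i.left ≫ W.hom)
    infer_instance
  · intro h
    have := hWft h
    show LocallyOfFiniteType (i.left ≫ W.hom)
    infer_instance
  · intro h
    have := hWfp h
    have : LocallyOfFiniteType W₂.hom := hW₂ft inferInstance
    have : LocallyOfFinitePresentation (pullback.diagonal W₂.hom ≫ pullback.fst W₂.hom W₂.hom) := by
      rw [pullback.diagonal_fst]; infer_instance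
    have hd' : LocallyOfFinitePresentation d.left :=
      Groth.L20.locallyOfFinitePresentation_of_comp (pullback.diagonal W₂.hom) (pullback.fst W₂.hom W₂.hom)
    have : LocallyOfFinitePresentation i.left := MorphismProperty.pullback_fst c.left d.left hd'
    show LocallyOfFinitePresentation (i.left ≫ W.hom)
    infer_instance

end Groth.L25.HomScheme
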