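import Groth.Agent.L25.HomScheme.Hom
import Mathlib.CategoryTheory.Monoidal.Cartesian.Grp

/-!
# The group law on a scheme of homomorphisms into a commutative group
-/

set_option autoImplicit false
universe u

open CategoryTheory CategoryTheory.Limits MonoidalCategory CartesianMonoidalCategory
open AlgebraicGeometry Opposite
open scoped MonObj

set_option backward.isDefEq.respectTransparency.types false

noncomputable section

namespace Groth.L25.HomScheme

variable {S : Scheme.{u}} {H G : Over S} [GrpObj H] [GrpObj G]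
  (hc : ∀ (X : Over S) (a b : X ⟶ G), a * b = b * a)

/-- Families of homomorphisms into a commutative group form a group. -/
def famGrp (T : Over S) : Subgroup (H ⊗ T ⟶ G) where
  carrier := {φ | AutFam.IsHomFamily H G φ}
  one_mem' X g₁ g₂ t := by simp only [MonObj.comp_one, _root_.mul_one]
  mul_mem' {φ ψ} h h' X g₁ g₂ t := by
    simp only [MonObj.comp_mul]
    rw [h X g₁ g₂ t, h' X g₁ g₂ t]
    simp only [_root_.mul_assoc]
    congr 1
    rw [← _root_.mul_assoc, ← _root_.mul_assoc, hc X (lift g₂ t ≫ φ) (lift g₁ t ≫ ψ)]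
  inv_mem' {φ} h X g₁ g₂ t := by
    simp only [GrpObj.comp_inv]
    rw [h X g₁ g₂ t, _root_.mul_inv_rev]
    exact hc X _ _

/-- The functor of families of homomorphisms as a functor to groups. -/
def famGrpFunctor : (Over S)ᵒᵖ ⥤ GrpCat.{u} where
  obj T := GrpCat.of (famGrp (H := H) hc T.unop)
  map {T T'} f := GrpCat.ofHom
    { toFun := fun φ => ⟨(H ◁ f.unop) ≫ φ.1, fun X g₁ g₂ t => by
        simp only [lift_whiskerLeft_assoc]; exact φ.2 X g₁ g₂ (t ≫ f.unop)⟩
      map_one' := Subtype.ext (MonObj.comp_one _)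
      map_mul' := fun φ ψ => Subtype.ext (MonObj.comp_mul _ _ _) }
  map_id T := by
    refine GrpCat.ext fun φ => Subtype.ext ?_
    show (H ◁ 𝟙 T.unop) ≫ φ.1 = φ.1
    rw [MonoidalCategory.whiskerLeft_id, Category.id_comp]
  map_comp {T T' T''} f g := by
    refine GrpCat.ext fun φ => Subtype.ext ?_
    show (H ◁ (g.unop ≫ f.unop)) ≫ φ.1 = (H ◁ g.unop) ≫ (H ◁ f.unop) ≫ φ.1
    rw [MonoidalCategory.whiskerLeft_comp, Category.assoc]

/-- The representing object represents the functor to groups. -/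
def famRepBy {A : Over S} {υ : H ⊗ A ⟶ G} (hA : AutFam.RepresentsHom H G A υ) :
    (famGrpFunctor (H := H) hc ⋙ forget _).RepresentableBy A where
  homEquiv {T} := Equiv.ofBijective
    (fun a => (⟨(H ◁ a) ≫ υ, fun X g₁ g₂ t => by
      simp only [lift_whiskerLeft_assoc]; exact hA.1 X g₁ g₂ (t ≫ a)⟩ : famGrp (H := H) hc T))
    ⟨fun a b h => (hA.2 T _ (by
        intro X g₁ g₂ t; simp only [lift_whiskerLeft_assoc]; exact hA.1 X g₁ g₂ (t ≫ b))).unique
        (congrArg Subtype.val h) rfl,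
      fun φ => ⟨(hA.2 T φ.1 φ.2).exists.choose, Subtype.ext (hA.2 T φ.1 φ.2).exists.choose_spec⟩⟩
  homEquiv_comp {T T'} f a := Subtype.ext (by
    show (H ◁ (f ≫ a)) ≫ υ = (H ◁ f) ≫ (H ◁ a) ≫ υ
    rw [MonoidalCategory.whiskerLeft_comp, Category.assoc])

include hc in
/-- The scheme of homomorphisms into a commutative group is a group under pointwise multiplication. -/
theorem exists_grpObj {A : Over S} {υ : H ⊗ A ⟶ G} (hA : AutFam.RepresentsHom H G A υ) :
    ∃ _ : GrpObj A, ∀ (T : Over S) (a b : T ⟶ A), (H ◁ (a * b)) ≫ υ = ((H ◁ a) ≫ υ) * ((H ◁ b) ≫ υ) := by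
  let α := famRepBy hc hA
  letI : GrpObj A := GrpObj.ofRepresentableBy A _ α
  refine ⟨inferInstance, fun T a b => ?_⟩
  have e0 : MonObj.mul (X := A) = α.homEquiv.symm (α.homEquiv (fst A A) * α.homEquiv (snd A A)) := rfl
  have e1 : α.homEquiv (MonObj.mul (X := A)) = α.homEquiv (fst A A) * α.homEquiv (snd A A) := by
    rw [e0, Equiv.apply_symm_apply]
  have h : (H ◁ MonObj.mul (X := A)) ≫ υ = ((H ◁ fst A A) ≫ υ) * ((H ◁ snd A A) ≫ υ) :=
    congrArg Subtype.val e1
  rw [Hom.mul_def, MonoidalCategory.whiskerLeft_comp, Category.assoc, h, MonObj.comp_mul]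
  simp only [← Category.assoc, ← MonoidalCategory.whiskerLeft_comp, lift_fst, lift_snd]

end Groth.L25.HomScheme
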