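import Groth.Agent.L25.HomScheme.HomFam
import Groth.Agent.L25.HomScheme.GmDual
import Groth.Agent.L25.DSPts
import Groth.Agent.L25.NilAction
import Groth.Prelude.Def_TwC
import Mathlib.GroupTheory.Abelianization.Defs
import Mathlib.Algebra.Group.TypeTags.Hom
import Mathlib.Data.Int.Cast.Lemmas

/-!
# The dual of a constant group is diagonalisable
-/

set_option autoImplicit false
universe u

open CategoryTheory CategoryTheory.Limits MonoidalCategory CartesianMonoidalCategory
open AlgebraicGeometry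
open scoped MonObj

set_option backward.isDefEq.respectTransparency.types false

noncomputable section

namespace Groth.L25.HomScheme

variable {S : Scheme.{u}}

/-- Over `P` the group `R` is constant with points `x`. -/
structure ConstData (R : Over S) [GrpObj R] (P : Over S) (M : Type) [Group M] where
  x : M → (P ⟶ R)
  mul : ∀ m n, x m * x n = x (m * n)
  cover : ∀ (T : Over S) (p : T ⟶ P), IsOpenFamily (fun _ : ULift.{u} M => T) (fun m => lift (p ≫ x m.down) (𝟙 T))
  disjoint : ∀ (T : Over S) (p : T ⟶ P) (m n : M), m ≠ n →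
    Disjoint (Set.range (lift (p ≫ x m) (𝟙 T)).left) (Set.range (lift (p ≫ x n) (𝟙 T)).left)

variable {R : Over S} [GrpObj R] {P : Over S} {M : Type} [Group M]

/-- Constant groups over a smaller base. -/
def ConstData.restrict (D : ConstData R P M) {Q : Over S} (k : Q ⟶ P) : ConstData R Q M where
  x m := k ≫ D.x m
  mul m n := by rw [← MonObj.comp_mul, D.mul]
  cover T p := by simpa only [← Category.assoc] using D.cover T (p ≫ k)
  disjoint T p m n h := by simpa only [← Category.assoc] using D.disjoint T (p ≫ k) m n h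

/-- The data of a group which becomes constant. -/
def ConstData.ofIso {P₀ : Scheme.{u}} (g : P₀ ⟶ S) (e : Red.bc g R ≅ TwC.const P₀ M)
    (he : TwC.IsConstGrp M (Red.bc g R) e) : ConstData R (Over.mk g) M := by
  let x : M → (Over.mk g ⟶ R) := fun m =>
    Over.homMk ((TwC.pt P₀ M m ≫ e.inv).left ≫ pullback.fst R.hom g) (by
      rw [Category.assoc, pullback.condition]
      refine (Category.assoc _ _ _).symm.trans ((congrArg (· ≫ g) (Over.w (TwC.pt P₀ M m ≫ e.inv))).trans ?_)
      exact Category.id_comp g)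
  let i : Over.mk ((𝟙_ (Over P₀)).hom ≫ g) ⟶ Over.mk g := Over.homMk (𝟙 P₀) rfl
  let i' : Over.mk g ⟶ Over.mk ((𝟙_ (Over P₀)).hom ≫ g) := Over.homMk (𝟙 P₀) (by
    show 𝟙 P₀ ≫ 𝟙 P₀ ≫ g = g
    rw [Category.id_comp, Category.id_comp])
  have hx : ∀ m, i' ≫ NilAction.toBase g (TwC.pt P₀ M m ≫ e.inv) = x m := fun m =>
    Over.OverMorphism.ext (Category.id_comp _)
  have hsec : ∀ m, (lift (x m) (𝟙 (Over.mk g))).left = Sigma.ι (fun _ : M => P₀) m ≫ e.inv.left := fun m => by
    apply pullback.hom_ext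
    · refine (congrArg (fun k => k.left) (lift_fst (x m) (𝟙 (Over.mk g)))).trans ?_
      exact Category.assoc (TwC.pt P₀ M m).left e.inv.left (pullback.fst R.hom g)
    · refine (congrArg (fun k => k.left) (lift_snd (x m) (𝟙 (Over.mk g)))).trans ?_
      refine (Over.w (TwC.pt P₀ M m ≫ e.inv)).symm.trans ?_
      rfl
  have hsq : ∀ (T : Over S) (p : T ⟶ Over.mk g) (m : M),
      IsPullback p.left (lift (p ≫ x m) (𝟙 T)).left (lift (x m) (𝟙 (Over.mk g))).left (R ◁ p).left := by
    intro T p m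
    have h1 : IsPullback p.left (𝟙 T.left) (𝟙 (Over.mk g).left) p.left :=
      IsPullback.of_vert_isIso ⟨by simp⟩
    refine IsPullback.of_bot ?_ ?_ (isPullback_whiskerLeft R p)
    · rw [show (lift (p ≫ x m) (𝟙 T)).left ≫ (snd R T).left = 𝟙 T.left from
          congrArg (fun k => k.left) (lift_snd (p ≫ x m) (𝟙 T)),
        show (lift (x m) (𝟙 (Over.mk g))).left ≫ (snd R (Over.mk g)).left = 𝟙 (Over.mk g).left from
          congrArg (fun k => k.left) (lift_snd (x m) (𝟙 (Over.mk g)))]
      exact h1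
    · refine congrArg (fun k => k.left) (show p ≫ lift (x m) (𝟙 (Over.mk g)) = lift (p ≫ x m) (𝟙 T) ≫ (R ◁ p) from ?_)
      rw [comp_lift, lift_whiskerLeft, Category.comp_id, Category.id_comp]
  have hrange : ∀ (T : Over S) (p : T ⟶ Over.mk g) (m : M) (z : (R ⊗ T).left),
      z ∈ Set.range (lift (p ≫ x m) (𝟙 T)).left ↔
        e.hom.left ((R ◁ p).left z) ∈ Set.range (Sigma.ι (fun _ : M => P₀) m) := by
    intro T p m z
    constructor
    · rintro ⟨t, rfl⟩
      refine ⟨p.left t, ?_⟩
      rw [← Scheme.Hom.comp_apply (lift (p ≫ x m) (𝟙 T)).left, ← (hsq T p m).w, hsec, Scheme.Hom.comp_apply,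
        Scheme.Hom.comp_apply]
      exact (congrArg (fun k : _ ⟶ TwC.const P₀ M => k.left (Sigma.ι (fun _ : M => P₀) m (p.left t))) e.inv_hom_id).symm
    · rintro ⟨w, hw⟩
      have hz : (R ◁ p).left z = (lift (x m) (𝟙 (Over.mk g))).left w := by
        rw [hsec, Scheme.Hom.comp_apply, hw]
        exact (congrArg (fun k : _ ⟶ Red.bc g R => k.left ((R ◁ p).left z)) e.hom_inv_id).symm
      obtain ⟨t, -, ht⟩ := Scheme.exists_preimage_of_isPullback (hsq T p m) w z hz.symm
      exact ⟨t, ht⟩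
  refine ⟨x, fun m n => ?_, fun T p => ⟨fun m => ?_, fun z => ?_⟩, fun T p m n hmn => ?_⟩
  · rw [← hx, ← hx, ← hx, ← MonObj.comp_mul, ← NilAction.toBase_mul, he m n]
  · refine MorphismProperty.of_isPullback (hsq T p m.down) ?_
    show IsOpenImmersion (lift (x m.down) (𝟙 (Over.mk g))).left
    rw [hsec]
    have : IsOpenImmersion (Sigma.ι (fun _ : M => P₀) m.down) := inferInstance
    have : IsIso e.inv.left := inferInstanceAs (IsIso ((Over.forget _).map e.inv))
    infer_instance
  · obtain ⟨m, w, hw⟩ := (sigmaOpenCover fun _ : M => P₀).exists_eq (e.hom.left ((R ◁ p).left z))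
    exact ⟨⟨m⟩, (hrange T p m z).2 ⟨w, hw⟩⟩
  · rw [Set.disjoint_left]
    intro z h1 h2
    obtain ⟨a, ha⟩ := (hrange T p m z).1 h1
    obtain ⟨b, hb⟩ := (hrange T p n z).1 h2
    obtain ⟨rfl⟩ := (sigmaι_eq_iff (fun _ : M => P₀) _ _ _ _).1 (ha.trans hb.symm)
    exact hmn rfl

/-- The character group of a constant group. -/
abbrev dualChar (M : Type) [Group M] : Type := Additive (Abelianization M)

/-- The character of `Gm` attached to a group element. -/
def elt (m : M) : Multiplicative ℤ →* Multiplicative (dualChar M) :=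
  zpowersHom _ (Multiplicative.ofAdd (Additive.ofMul (Abelianization.of m)))

theorem elt_one (m : M) : elt m (Multiplicative.ofAdd 1) =
    Multiplicative.ofAdd (Additive.ofMul (Abelianization.of m)) := by
  simp [elt, zpowersHom_apply]

theorem elt_mul (m n : M) : elt (m * n) = elt m * elt n := by
  refine MonoidHom.ext_mint ?_
  rw [MonoidHom.mul_apply, elt_one, elt_one, elt_one, map_mul]
  rfl

variable (D : ConstData R P M)

/-- Pieces of a parameter where a point of the constant group has constant value. -/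
theorem ConstData.exists_cover (D : ConstData R P M) {X T : Over S} (p : T ⟶ P) (g : X ⟶ R) (t : X ⟶ T) :
    ∃ (U : ULift.{u} M → Over S) (k : ∀ m, U m ⟶ X), IsOpenFamily U k ∧
      ∀ m, k m ≫ g = k m ≫ t ≫ p ≫ D.x m.down := by
  let l : ULift.{u} M → (T ⟶ R ⊗ T) := fun m => lift (p ≫ D.x m.down) (𝟙 T)
  let q : X ⟶ R ⊗ T := lift g t
  have hl : IsOpenFamily (fun _ : ULift.{u} M => T) l := D.cover T p
  let U : ULift.{u} M → Over S := fun m => Over.mk (pullback.fst q.left (l m).left ≫ X.hom)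
  let k : ∀ m, U m ⟶ X := fun m => Over.homMk (pullback.fst q.left (l m).left) rfl
  refine ⟨U, k, ⟨fun m => ?_, fun z => ?_⟩, fun m => ?_⟩
  · exact MorphismProperty.pullback_fst q.left (l m).left (hl.isOpenImmersion m)
  · obtain ⟨m, w, hw⟩ := hl.covers (q.left z)
    obtain ⟨y, hy, -⟩ := Scheme.Pullback.exists_preimage_pullback z w hw.symm
    exact ⟨m, y, hy⟩
  · let k' : U m ⟶ T := Over.homMk (pullback.snd q.left (l m).left) (by
      show pullback.snd q.left (l m).left ≫ T.hom = pullback.fst q.left (l m).left ≫ X.hom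
      rw [← Over.w q, pullback.condition_assoc, Over.w (l m)])
    have h : k m ≫ q = k' ≫ l m := Over.OverMorphism.ext pullback.condition
    have h1 : k m ≫ g = k' ≫ p ≫ D.x m.down := by
      simpa only [q, l, comp_lift, lift_fst] using congrArg (· ≫ fst R T) h
    have h2 : k m ≫ t = k' := by
      simpa only [q, l, comp_lift, lift_snd, Category.comp_id] using congrArg (· ≫ snd R T) h
    rw [h1, ← h2, Category.assoc]

/-- Families into `Gm` are determined on the pieces. -/
theorem ConstData.fam_ext (D : ConstData R P M) {T : Over S} (p : T ⟶ P) {φ ψ : R ⊗ T ⟶ Red.Gm S}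
    (h : ∀ m, lift (p ≫ D.x m) (𝟙 T) ≫ φ = lift (p ≫ D.x m) (𝟙 T) ≫ ψ) : φ = ψ :=
  (D.cover T p).hom_ext fun m => h m.down

/-- The values of a character on the pieces. -/
def val {T : Over S} (a : T ⟶ Red.DS S (dualChar M)) (m : M) : T ⟶ Red.Gm S :=
  DSPts.pt ((DSPts.char a).comp (elt m))

theorem val_comp {T T' : Over S} (f : T' ⟶ T) (a : T ⟶ Red.DS S (dualChar M)) (m : M) :
    f ≫ val a m = val (f ≫ a) m := by
  refine DSPts.char_injective (MonoidHom.ext fun z => ?_)
  rw [DSPts.char_comp, val, val, DSPts.char_pt, DSPts.char_pt]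
  exact (DSPts.char_comp f a _).symm

theorem val_mul {T : Over S} (a b : T ⟶ Red.DS S (dualChar M)) (m : M) : val (a * b) m = val a m * val b m := by
  refine DSPts.char_injective ?_
  rw [DSPts.char_mul, val, val, val, DSPts.char_pt, DSPts.char_pt, DSPts.char_pt, DSPts.char_mul,
    MonoidHom.mul_comp]

theorem val_elt_mul {T : Over S} (a : T ⟶ Red.DS S (dualChar M)) (m n : M) : val a (m * n) = val a m * val a n := by
  refine DSPts.char_injective ?_
  rw [DSPts.char_mul, val, val, val, DSPts.char_pt, DSPts.char_pt, DSPts.char_pt, elt_mul, MonoidHom.comp_mul]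

theorem val_injective {T : Over S} {a b : T ⟶ Red.DS S (dualChar M)} (h : ∀ m, val a m = val b m) : a = b := by
  refine DSPts.char_injective ?_
  have hv : ∀ m : M, DSPts.char a (Multiplicative.ofAdd (Additive.ofMul (Abelianization.of m))) =
      DSPts.char b (Multiplicative.ofAdd (Additive.ofMul (Abelianization.of m))) := fun m => by
    have h1 := congrArg DSPts.char (h m)
    rw [val, val, DSPts.char_pt, DSPts.char_pt] at h1
    simpa only [MonoidHom.comp_apply, elt_one] using DFunLike.congr_fun h1 (Multiplicative.ofAdd 1)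
  refine MonoidHom.ext fun z => ?_
  obtain ⟨m, hm⟩ := QuotientGroup.mk_surjective (Additive.toMul (Multiplicative.toAdd z))
  have : z = Multiplicative.ofAdd (Additive.ofMul (Abelianization.of m)) := by
    rw [show Abelianization.of m = Additive.toMul (Multiplicative.toAdd z) from hm]
    rfl
  rw [this]
  exact hv m

theorem exists_val {T : Over S} (v : M → (T ⟶ Red.Gm S)) (hv : ∀ m n, v (m * n) = v m * v n) :
    ∃ a : T ⟶ Red.DS S (dualChar M), ∀ m, val a m = v m := by
  let c : M →* Γ(T.left, ⊤) :=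
    { toFun := fun m => DSPts.char (v m) (Multiplicative.ofAdd 1)
      map_one' := by
        have hm : DSPts.char (v 1) (Multiplicative.ofAdd 1) =
            DSPts.char (v 1) (Multiplicative.ofAdd 1) * DSPts.char (v 1) (Multiplicative.ofAdd 1) := by
          conv_lhs => rw [show (1 : M) = 1 * 1 from (_root_.one_mul 1).symm, hv, DSPts.char_mul, MonoidHom.mul_apply]
        have hu : IsUnit (DSPts.char (v 1) (Multiplicative.ofAdd 1)) := (Group.isUnit _).map _
        exact hu.mul_left_cancel (hm.symm.trans (_root_.mul_one _).symm)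
      map_mul' := fun m n => by rw [hv, DSPts.char_mul, MonoidHom.mul_apply] }
  let cu : M →* (Γ(T.left, ⊤))ˣ := c.toHomUnits
  let l : Abelianization M →* (Γ(T.left, ⊤))ˣ := Abelianization.lift cu
  let χ : Multiplicative (dualChar M) →* Γ(T.left, ⊤) :=
    (Units.coeHom _).comp (MonoidHom.mk' (fun z => l (Additive.toMul (Multiplicative.toAdd z)))
      fun y z => l.map_mul _ _)
  refine ⟨DSPts.pt χ, fun m => DSPts.char_injective (MonoidHom.ext_mint ?_)⟩
  rw [val, DSPts.char_pt, DSPts.char_pt, MonoidHom.comp_apply, elt_one]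
  show ((l (Abelianization.of m) : (Γ(T.left, ⊤))ˣ) : Γ(T.left, ⊤)) = _
  rw [Abelianization.lift_apply_of]
  rfl

/-- Homomorphisms of a constant group into the multiplicative group form a diagonalisable group. -/
theorem ConstData.exists_isRepOn (D : ConstData R P M) :
    ∃ ξ : (homFam R (Red.Gm S)).obj (Red.DS S (dualChar M) ⊗ P),
      (homFam R (Red.Gm S)).IsRepOn (snd (Red.DS S (dualChar M)) P) ξ ∧
      ∀ (T : Over S) (p : T ⟶ P) (a : T ⟶ Red.DS S (dualChar M)) (m : M),
        lift (p ≫ D.x m) (lift a p) ≫ ξ.1 = val a m := by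
  let A₁ : Over S := Red.DS S (dualChar M) ⊗ P
  let p₀ : A₁ ⟶ P := snd _ P
  let a₀ : A₁ ⟶ Red.DS S (dualChar M) := fst _ P
  have hU := D.cover A₁ p₀
  obtain ⟨φ, hφ⟩ := hU.exists_glue (fun m => val a₀ m.down) fun i k Z c d ecd => by
    by_cases hik : i = k
    · subst hik
      have : IsOpenImmersion (lift (p₀ ≫ D.x i.down) (𝟙 A₁)).left := hU.isOpenImmersion i
      have : Mono (lift (p₀ ≫ D.x i.down) (𝟙 A₁)) := Over.mono_of_mono_left _
      rw [(cancel_mono _).1 ecd]
    · have : IsEmpty Z.left := ⟨fun z => by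
        refine Set.disjoint_left.1 (D.disjoint A₁ p₀ i.down k.down fun h => hik (ULift.ext _ _ h))
          ⟨c.left z, rfl⟩ ⟨d.left z, ?_⟩
        exact (congrArg (fun l : Z ⟶ R ⊗ A₁ => l.left z) ecd).symm⟩
      exact Over.OverMorphism.ext (isInitialOfIsEmpty.hom_ext _ _)
  have key : ∀ (T : Over S) (p : T ⟶ P) (a : T ⟶ Red.DS S (dualChar M)) (m : M),
      lift (p ≫ D.x m) (lift a p) ≫ φ = val a m := by
    intro T p a m
    have h1 := congrArg (lift a p ≫ ·) (hφ ⟨m⟩)
    simp only [p₀, a₀, A₁, comp_lift_assoc, lift_snd_assoc, Category.comp_id, val_comp, lift_fst] at h1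
    exact h1
  have hfam : AutFam.IsHomFamily R (Red.Gm S) φ := by
    intro X g₁ g₂ t
    obtain ⟨U₁, k₁, hU₁, h₁⟩ := D.exists_cover p₀ g₁ t
    refine hU₁.hom_ext fun m => ?_
    obtain ⟨U₂, k₂, hU₂, h₂⟩ := D.exists_cover p₀ (k₁ m ≫ g₂) (k₁ m ≫ t)
    refine hU₂.hom_ext fun n => ?_
    let s := k₂ n ≫ k₁ m ≫ t
    have e1 : k₂ n ≫ k₁ m ≫ g₁ = (s ≫ p₀) ≫ D.x m.down := by rw [h₁ m]; simp only [s, Category.assoc]
    have e2 : k₂ n ≫ k₁ m ≫ g₂ = (s ≫ p₀) ≫ D.x n.down := by rw [h₂ n]; simp only [s, Category.assoc]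
    have es : lift (s ≫ a₀) (s ≫ p₀) = s := by rw [← comp_lift, lift_fst_snd, Category.comp_id]
    simp only [MonObj.comp_mul, comp_lift_assoc]
    rw [e1, e2, ← MonObj.comp_mul, D.mul]
    have hs : ∀ k, lift ((s ≫ p₀) ≫ D.x k) s ≫ φ = val (s ≫ a₀) k := fun k =>
      (congrArg (fun w => lift ((s ≫ p₀) ≫ D.x k) w ≫ φ) es).symm.trans (key _ (s ≫ p₀) (s ≫ a₀) k)
    show lift _ s ≫ φ = (lift _ s ≫ φ) * (lift _ s ≫ φ)
    rw [hs, hs, hs, val_elt_mul]
  refine ⟨⟨φ, hfam⟩, fun T p x => ?_, key⟩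
  obtain ⟨a, ha⟩ := exists_val (T := T) (fun m => lift (p ≫ D.x m) (𝟙 T) ≫ x.1) fun m n => by
    rw [← D.mul, MonObj.comp_mul, x.2 T _ _ (𝟙 T)]
  refine ⟨lift a p, ⟨lift_snd a p, Subtype.ext (D.fam_ext p fun m => ?_)⟩, fun b hb => ?_⟩
  · show lift (p ≫ D.x m) (𝟙 T) ≫ (R ◁ lift a p) ≫ φ = _
    rw [lift_whiskerLeft_assoc, Category.id_comp, key, ha]
  · apply CartesianMonoidalCategory.hom_ext
    · rw [lift_fst]
      refine val_injective fun m => ?_
      rw [ha, ← key T p (b ≫ fst _ P) m]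
      have h2 : lift (b ≫ fst _ P) p = b := by
        conv_lhs => rw [← hb.1]
        rw [← comp_lift, lift_fst_snd, Category.comp_id]
      rw [h2, ← congrArg Subtype.val hb.2]
      show lift (p ≫ D.x m) b ≫ φ = lift (p ≫ D.x m) (𝟙 T) ≫ (R ◁ b) ≫ φ
      rw [lift_whiskerLeft_assoc, Category.id_comp]
    · rw [lift_snd]
      exact hb.1

end Groth.L25.HomScheme
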