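import Groth.Agent.L25.HomScheme.HomFam
import Groth.Agent.L25.HomScheme.ChartHom
import Groth.Agent.L20.SchDesc.Sigma

/-!
# Over a chart homomorphisms of split groups form a constant scheme
-/

set_option autoImplicit false
universe u

open CategoryTheory CategoryTheory.Limits MonoidalCategory CartesianMonoidalCategory
open AlgebraicGeometry
open scoped MonObj

set_option backward.isDefEq.respectTransparency.types false

noncomputable section

namespace Groth.L25.HomScheme

open Groth.L25.Cocycle Groth.L25.HomLocus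

variable {S : Scheme.{u}}

/-- The projection of a sum of copies. -/
def copies (Φ : Type u) (P : Over S) : Fam.sig (fun _ : Φ => P) ⟶ P :=
  Over.homMk (Sigma.desc fun _ => 𝟙 P.left) (Sigma.hom_ext _ _ fun φ => by
    show Sigma.ι (fun _ : Φ => P.left) φ ≫ (Sigma.desc fun _ : Φ => 𝟙 P.left) ≫ P.hom =
      Sigma.ι (fun _ : Φ => P.left) φ ≫ Sigma.desc fun _ : Φ => P.hom
    rw [Sigma.ι_desc_assoc, Sigma.ι_desc, Category.id_comp])

theorem inc_copies (Φ : Type u) (P : Over S) (φ : Φ) : Fam.inc (fun _ : Φ => P) φ ≫ copies Φ P = 𝟙 P :=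
  Over.OverMorphism.ext (Sigma.ι_desc _ _)

/-- A constant scheme is ind-quasi-affine. -/
theorem isIndQuasiAffineHom_copies (Φ : Type u) (X : Scheme.{u}) :
    MoreMor.IsIndQuasiAffineHom (Sigma.desc fun _ : Φ => 𝟙 X) := by
  rw [Groth.L20.isIndQuasiAffineHom_iff]
  intro V hV U hUV hU
  let O : Φ → (∐ fun _ : Φ => X).Opens := fun φ => Sigma.ι (fun _ : Φ => X) φ ''ᵁ V
  obtain ⟨t, ht⟩ := hU.elim_finite_subcover (fun φ => (O φ : Set ↥(∐ fun _ : Φ => X))) (fun φ => (O φ).2)
    fun x hx => by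
      obtain ⟨φ, y, rfl⟩ := Groth.L20.SchDesc.exists_sigmaι_eq x
      refine Set.mem_iUnion.2 ⟨φ, y, ?_, rfl⟩
      have h1 := hUV hx
      change (Sigma.desc fun _ : Φ => 𝟙 X) (Sigma.ι (fun _ : Φ => X) φ y) ∈ V at h1
      rw [← Scheme.Hom.comp_apply, Sigma.ι_desc] at h1
      exact h1
  have hO : IsAffineOpen (⨆ φ ∈ (t : Set Φ), O φ) :=
    IsAffineOpen.biSup_of_disjoint t.finite_toSet (fun φ _ => hV.image_of_isOpenImmersion _)
      fun φ _ φ' _ hne => (disjoint_opensRange_sigmaι (fun _ : Φ => X) φ φ' hne).mono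
        (Scheme.Hom.image_le_opensRange _ _) (Scheme.Hom.image_le_opensRange _ _)
  have : IsAffine (⨆ φ ∈ (t : Set Φ), O φ : (∐ fun _ : Φ => X).Opens).toScheme := hO
  refine Groth.L20.isQuasiAffine_of_le (W := ⨆ φ ∈ (t : Set Φ), O φ) (fun x hx => ?_) hU
  simp only [SetLike.mem_coe, TopologicalSpace.Opens.mem_iSup]
  obtain ⟨φ, hφ, hxφ⟩ := Set.mem_iUnion₂.1 (ht hx)
  exact ⟨φ, hφ, hxφ⟩

variable {R : Type u} [CommRing R] {j : Spec (CommRingCat.of R) ⟶ S} {H G : Over S} [GrpObj H] [GrpObj G]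
  {M N : Type} [CommGroup M] [CommGroup N] (e : Chart j H M) (e' : Chart j G N)

include e e' in
/-- Over a chart homomorphisms are parametrised by the constant scheme on homomorphisms of characters. -/
theorem exists_isRepOn_const [IsAffineHom H.hom] [Monoid.FG N] :
    ∃ ξ : (homFam H G).obj (Fam.sig fun _ : ULift.{u} (N →* M) => X j R),
      (homFam H G).IsRepOn (copies (ULift.{u} (N →* M)) (X j R)) ξ ∧
      ∀ φ, ((homFam H G).res (Fam.inc _ φ) ξ).1 = fam e e' φ.down R := by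
  let Φ : Type u := ULift.{u} (N →* M)
  let P : Over S := X j R
  let F := homFam H G
  let A₁ : Over S := Fam.sig fun _ : Φ => P
  let r : A₁ ⟶ P := copies Φ P
  have hinc := Fam.inc_openFamily (fun _ : Φ => P)
  obtain ⟨ξ, hξ⟩ := homFam_zarGlue (H := H) (G := G) A₁ Φ (fun _ => P) (Fam.inc fun _ : Φ => P) hinc
    (fun φ => ⟨fam e e' φ.down R, isHomFamily_fam e e' φ.down R⟩) fun i k Z a b eab => by
      by_cases hik : i = k
      · subst hik
        have : IsOpenImmersion (Fam.inc (fun _ : Φ => P) i).left := hinc.isOpenImmersion i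
        have : Mono (Fam.inc (fun _ : Φ => P) i) := Over.mono_of_mono_left _
        rw [(cancel_mono _).1 eab]
      · have := Fam.isEmpty_of_inc (P := fun _ : Φ => P) a b eab hik
        exact (homFam_zarSep.subsingleton Z).elim _ _
  have hξ' : ∀ φ, ((homFam H G).res (Fam.inc _ φ) ξ).1 = fam e e' φ.down R := fun φ => congrArg Subtype.val (hξ φ)
  -- the family on a point over an algebra
  have hpt : ∀ (φ : Φ) (D : Type u) [CommRing D] [Algebra R D],
      (F.res (Cocycle.mor j (Algebra.ofId R D) ≫ Fam.inc (fun _ : Φ => P) φ) ξ).1 = fam e e' φ.down D := by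
    intro φ D _ _
    show (H ◁ (Cocycle.mor j (Algebra.ofId R D) ≫ Fam.inc (fun _ : Φ => P) φ)) ≫ ξ.1 = _
    rw [MonoidalCategory.whiskerLeft_comp, Category.assoc,
      show (H ◁ Fam.inc (fun _ : Φ => P) φ) ≫ ξ.1 = fam e e' φ.down R from hξ' φ, fam_res]
  -- uniqueness
  have huniq : ∀ (Z : Over S) (a b : Z ⟶ A₁), a ≫ r = b ≫ r → F.res a ξ = F.res b ξ → a = b := by
    intro Z a b h1 h2
    let 𝒰 := sigmaOpenCover fun _ : Φ => P.left
    refine Over.OverMorphism.ext (Scheme.Cover.hom_ext (𝒰.pullback₁ a.left) _ _ fun (φ : Φ) => ?_)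
    let q₁ : pullback a.left (Sigma.ι (fun _ : Φ => P.left) φ) ⟶ Z.left := pullback.fst _ _
    show q₁ ≫ a.left = q₁ ≫ b.left
    have hrange : Set.range (q₁ ≫ b.left) ⊆ Set.range (Sigma.ι (fun _ : Φ => P.left) φ) := by
      rintro _ ⟨z, rfl⟩
      obtain ⟨φ', w, hw⟩ := 𝒰.exists_eq ((q₁ ≫ b.left) z)
      let Zr := pullback a.left (Sigma.ι (fun _ : Φ => P.left) φ)
      let K := Zr.residueField z
      let o : Spec (CommRingCat.of K) ⟶ Zr := Zr.fromSpecResidueField z
      let ρ : Spec (CommRingCat.of K) ⟶ P.left := o ≫ pullback.snd a.left (Sigma.ι (fun _ : Φ => P.left) φ)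
      obtain ⟨ψ, hψ⟩ := Spec.map_surjective ρ
      let : Algebra R K := ψ.hom.toAlgebra
      have ha : o ≫ q₁ ≫ a.left = ρ ≫ Sigma.ι (fun _ : Φ => P.left) φ := by
        rw [pullback.condition]; exact (Category.assoc _ _ _).symm
      have hrg : Set.range (o ≫ q₁ ≫ b.left) ⊆ Set.range (Sigma.ι (fun _ : Φ => P.left) φ') := by
        rintro _ ⟨t, rfl⟩
        refine ⟨w, hw.trans ?_⟩
        show (q₁ ≫ b.left) z = (q₁ ≫ b.left) (o t)
        rw [show o t = z from Scheme.fromSpecResidueField_apply z t]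
      let v := IsOpenImmersion.lift (Sigma.ι (fun _ : Φ => P.left) φ') (o ≫ q₁ ≫ b.left) hrg
      have hv : v ≫ Sigma.ι (fun _ : Φ => P.left) φ' = o ≫ q₁ ≫ b.left := IsOpenImmersion.lift_fac _ _ _
      have hr1 : a.left ≫ Sigma.desc (fun _ : Φ => 𝟙 P.left) = b.left ≫ Sigma.desc (fun _ : Φ => 𝟙 P.left) :=
        congrArg (fun m => m.left) h1
      have hvρ : v = ρ := by
        have h3 : v ≫ Sigma.ι (fun _ : Φ => P.left) φ' ≫ Sigma.desc (fun _ : Φ => 𝟙 P.left) =
            ρ ≫ Sigma.ι (fun _ : Φ => P.left) φ ≫ Sigma.desc (fun _ : Φ => 𝟙 P.left) := by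
          rw [← Category.assoc, hv, ← Category.assoc ρ, ← ha, Category.assoc, Category.assoc, Category.assoc,
            Category.assoc, hr1]
        rwa [Sigma.ι_desc, Sigma.ι_desc, Category.comp_id, Category.comp_id] at h3
      let zK : X j K ⟶ Z := Over.homMk (o ≫ q₁) (by
        show (o ≫ q₁) ≫ Z.hom = Spec.map ψ ≫ j
        rw [hψ, ← Over.w a, Category.assoc, reassoc_of% ha]
        show ρ ≫ Sigma.ι (fun _ : Φ => P.left) φ ≫ Sigma.desc (fun _ : Φ => P.hom) = ρ ≫ j
        rw [Sigma.ι_desc]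
        exact congrArg (ρ ≫ ·) (by
          show Spec.map (CommRingCat.ofHom (RingHom.id R)) ≫ j = j
          rw [CommRingCat.ofHom_id, Spec.map_id, Category.id_comp]))
      have hza : zK ≫ a = Cocycle.mor j (Algebra.ofId R K) ≫ Fam.inc (fun _ : Φ => P) φ := by
        apply Over.OverMorphism.ext
        show (o ≫ q₁) ≫ a.left = Spec.map ψ ≫ Sigma.ι (fun _ : Φ => P.left) φ
        rw [Category.assoc, ha, hψ]
      have hzb : zK ≫ b = Cocycle.mor j (Algebra.ofId R K) ≫ Fam.inc (fun _ : Φ => P) φ' := by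
        apply Over.OverMorphism.ext
        show (o ≫ q₁) ≫ b.left = Spec.map ψ ≫ Sigma.ι (fun _ : Φ => P.left) φ'
        rw [Category.assoc, ← hv, hψ, hvρ]
      have h4 : fam e e' φ.down K = fam e e' φ'.down K := by
        rw [← hpt φ K, ← hpt φ' K, ← hza, ← hzb, F.res_comp, F.res_comp, h2]
      obtain rfl : φ = φ' := ULift.ext _ _ (fam_injective e e' h4)
      exact ⟨w, hw⟩
    rw [← IsOpenImmersion.lift_fac (Sigma.ι (fun _ : Φ => P.left) φ) (q₁ ≫ b.left) hrange]
    have h3 : q₁ ≫ a.left = pullback.snd a.left _ ≫ Sigma.ι (fun _ : Φ => P.left) φ := pullback.condition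
    rw [h3]
    congr 1
    have h4 : q₁ ≫ a.left ≫ Sigma.desc (fun _ : Φ => 𝟙 P.left) = q₁ ≫ b.left ≫ Sigma.desc (fun _ : Φ => 𝟙 P.left) :=
      congrArg (q₁ ≫ ·) (congrArg (fun m => m.left) h1)
    simp only [← Category.assoc, h3] at h4
    rw [← IsOpenImmersion.lift_fac (Sigma.ι (fun _ : Φ => P.left) φ) (q₁ ≫ b.left) hrange] at h4
    simpa only [Category.assoc, Sigma.ι_desc, Category.comp_id] using h4
  refine ⟨ξ, Fam.IsRepOn.of_affine homFam_zarSep ?_, hξ'⟩
  intro T _ p x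
  obtain ⟨ψ, hψ⟩ := Spec.map_surjective (T.left.isoSpec.inv ≫ p.left)
  let C : Type u := Γ(T.left, ⊤)
  let : Algebra R C := ψ.hom.toAlgebra
  let i : X j C ≅ T := Over.isoMk T.left.isoSpec.symm (by
    show T.left.isoSpec.inv ≫ T.hom = Spec.map ψ ≫ j
    rw [hψ, Category.assoc]
    congr 1
    rw [← Over.w p]
    exact congrArg (p.left ≫ ·) (by
      show Spec.map (CommRingCat.ofHom (RingHom.id R)) ≫ j = j
      rw [CommRingCat.ofHom_id, Spec.map_id, Category.id_comp]))
  have hip : i.hom ≫ p = Cocycle.mor j (Algebra.ofId R C) := Over.OverMorphism.ext hψ.symm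
  let x' := F.res i.hom x
  choose f hf φ hφ using fun q : PrimeSpectrum C => exists_local_family e e' x'.1 x'.2 q
  let U : PrimeSpectrum C → Over S := fun q => X j (Localization.Away (f q))
  let h : ∀ q, C →ₐ[R] Localization.Away (f q) := fun q => IsScalarTower.toAlgHom R C _
  let k : ∀ q, U q ⟶ X j C := fun q => Cocycle.mor j (h q)
  have hU : IsOpenFamily U k := ⟨fun q => IsOpenImmersion.of_isLocalization (f q), fun z => by
    let q : PrimeSpectrum C := z
    obtain ⟨w, hw⟩ : q ∈ Set.range (PrimeSpectrum.comap (algebraMap C (Localization.Away (f q)))) := by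
      rw [PrimeSpectrum.localization_away_comap_range _ (f q)]
      exact hf q
    exact ⟨q, (w : ↥((U q).left)), hw⟩⟩
  let a : ∀ q, U q ⟶ A₁ := fun q => Cocycle.mor j (Algebra.ofId R _) ≫ Fam.inc (fun _ : Φ => P) ⟨φ q⟩
  have har : ∀ q, a q ≫ r = k q ≫ Cocycle.mor j (Algebra.ofId R C) := fun q => by
    rw [Category.assoc, inc_copies, Category.comp_id, ← mor_comp]
    exact congrArg (Cocycle.mor j) (Subsingleton.elim _ _)
  have hax : ∀ q, F.res (a q) ξ = F.res (k q) x' := fun q => Subtype.ext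
    ((hpt ⟨φ q⟩ _).trans (hφ q _ (h q) (IsLocalization.Away.algebraMap_isUnit (f q))).symm)
  obtain ⟨b, hb⟩ := hU.exists_glue a fun q l Z c d ecd => by
    refine huniq Z _ _ ?_ ?_
    · refine (Category.assoc c (a q) r).trans ((congrArg (c ≫ ·) (har q)).trans ?_)
      refine Eq.trans ?_ ((congrArg (d ≫ ·) (har l)).symm.trans (Category.assoc d (a l) r).symm)
      exact (Category.assoc _ _ _).symm.trans ((congrArg (· ≫ Cocycle.mor j (Algebra.ofId R C)) ecd).trans (Category.assoc _ _ _))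
    · refine (F.res_comp c (a q) ξ).trans (((congrArg (F.res c) (hax q)).trans ?_).trans (F.res_comp d (a l) ξ).symm)
      refine Eq.trans ?_ (congrArg (F.res d) (hax l)).symm
      exact (F.res_comp c (k q) x').symm.trans ((congrArg (F.res · x') ecd).trans (F.res_comp d (k l) x'))
  have hb₁ : b ≫ r = i.hom ≫ p := hU.hom_ext fun q => by rw [← Category.assoc, hb, har, hip]
  have hb₂ : F.res b ξ = x' := homFam_zarSep _ _ U k hU _ _ fun q => by rw [← F.res_comp, hb, hax]
  have hx : F.res i.inv x' = x := by rw [← F.res_comp, i.inv_hom_id, F.res_id]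
  refine ⟨i.inv ≫ b, ⟨?_, ?_⟩, fun c hc => huniq T c _ ?_ ?_⟩
  · rw [Category.assoc, hb₁, Iso.inv_hom_id_assoc]
  · rw [F.res_comp, hb₂, hx]
  · rw [hc.1, Category.assoc, hb₁, Iso.inv_hom_id_assoc]
  · rw [hc.2, F.res_comp, hb₂, hx]

end Groth.L25.HomScheme
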