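import Groth.Agent.L25.HomScheme.Hom

/-!
# The functor of families of homomorphisms
-/

set_option autoImplicit false
universe u

open CategoryTheory CategoryTheory.Limits MonoidalCategory CartesianMonoidalCategory
open AlgebraicGeometry
open scoped MonObj

set_option backward.isDefEq.respectTransparency.types false

noncomputable section

namespace Groth.L25.HomScheme

open Groth.L20.SchDesc

variable {S : Scheme.{u}} {H G : Over S} [GrpObj H] [GrpObj G]

theorem isHomFamily_res {T T' : Over S} (f : T' ⟶ T) {φ : H ⊗ T ⟶ G} (h : AutFam.IsHomFamily H G φ) :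
    AutFam.IsHomFamily H G ((H ◁ f) ≫ φ) := by
  rw [isHomFamily_iff] at h ⊢
  rw [mulArg_res, mulVal_res, h]

variable (H G) in
/-- Families of homomorphisms parametrised by schemes over `S`. -/
def homFam : Fam.{u, u} S where
  obj T := {φ : H ⊗ T ⟶ G // AutFam.IsHomFamily H G φ}
  res f φ := ⟨(H ◁ f) ≫ φ.1, isHomFamily_res f φ.2⟩
  res_id φ := Subtype.ext ((mor H G).res_id φ.1)
  res_comp f g φ := Subtype.ext ((mor H G).res_comp f g φ.1)

theorem homFam_res_val {T T' : Over S} (f : T' ⟶ T) (φ : (homFam H G).obj T) :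
    ((homFam H G).res f φ).1 = (H ◁ f) ≫ φ.1 := rfl

/-- Being a family of homomorphisms is local. -/
theorem isHomFamily_local {T : Over S} {I : Type u} {U : I → Over S} {j : ∀ i, U i ⟶ T} (hU : IsOpenFamily U j)
    {φ : H ⊗ T ⟶ G} (h : ∀ i, AutFam.IsHomFamily H G ((H ◁ j i) ≫ φ)) : AutFam.IsHomFamily H G φ := by
  rw [isHomFamily_iff]
  refine mor_zarSep (H ⊗ H) G T I U j hU _ _ fun i => ?_
  show ((H ⊗ H) ◁ j i) ≫ mulArg φ = ((H ⊗ H) ◁ j i) ≫ mulVal φ
  rw [← mulArg_res, ← mulVal_res]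
  exact (isHomFamily_iff _).1 (h i)

theorem homFam_zarSep : (homFam H G).ZarSep := fun T I U j hU _ _ e =>
  Subtype.ext (mor_zarSep H G T I U j hU _ _ fun i => congrArg Subtype.val (e i))

theorem homFam_zarGlue : (homFam H G).ZarGlue := by
  intro T I U j hU x hx
  obtain ⟨y, hy⟩ := mor_zarGlue H G T I U j hU (fun i => (x i).1)
    fun i k Z a b e => congrArg Subtype.val (hx i k Z a b e)
  exact ⟨⟨y, isHomFamily_local hU fun i => by rw [show (H ◁ j i) ≫ y = (x i).1 from hy i]; exact (x i).2⟩,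
    fun i => Subtype.ext (hy i)⟩

theorem homFam_sep (P : Over S) [Cov P.hom] (T : Over S) : (homFam H G).Sep (fst T P) := fun _ _ e =>
  Subtype.ext (mor_sep H G P T _ _ (congrArg Subtype.val e))

theorem homFam_desc (P : Over S) [Cov P.hom] (T : Over S) : (homFam H G).Desc (fst T P) := by
  intro x hx
  obtain ⟨y, hy⟩ := mor_desc H G P T x.1 fun Z a b e => congrArg Subtype.val (hx Z a b e)
  refine ⟨⟨y, ?_⟩, Subtype.ext hy⟩
  rw [isHomFamily_iff]
  refine mor_sep (H ⊗ H) G P T _ _ ?_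
  show ((H ⊗ H) ◁ fst T P) ≫ mulArg y = ((H ⊗ H) ◁ fst T P) ≫ mulVal y
  rw [← mulArg_res, ← mulVal_res, show (H ◁ fst T P) ≫ y = x.1 from hy]
  exact (isHomFamily_iff _).1 x.2

/-- A representing object of the functor of families represents `Hom`. -/
theorem representsHom_of_isRep {A : Over S} {υ : (homFam H G).obj A} (h : (homFam H G).IsRep A υ) :
    AutFam.RepresentsHom H G A υ.1 := by
  refine ⟨υ.2, fun T φ hφ => ?_⟩
  obtain ⟨a, ha, hu⟩ := h T ⟨φ, hφ⟩
  exact ⟨a, congrArg Subtype.val ha, fun b hb => hu b (Subtype.ext hb)⟩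

end Groth.L25.HomScheme
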